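import Mathlib

/-! Base change `A' = R' ⊗[R] A` of a graded ring: irrelevant ideal and degree-zero localisations. -/

noncomputable section

universe u

open CategoryTheory TensorProduct HomogeneousLocalization
open scoped HomogeneousIdeal

namespace Groth.Agent.RelProjLib

variable {R R' A B σ τ : Type u} [CommRing R] [CommRing R'] [CommRing A] [SetLike σ A] [AddSubgroupClass σ A]
  [CommRing B] [SetLike τ B] [AddSubgroupClass τ B] {𝒜 : ℕ → σ} {ℬ : ℕ → τ} [GradedRing 𝒜] [GradedRing ℬ]

/-- A ring map into degree zero, followed by `A₀ → A_(f)`. -/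
def zeroToAway (s : R →+* A) (hs : ∀ r, s r ∈ 𝒜 0) (f : A) : R →+* Away 𝒜 f :=
  (fromZeroRingHom 𝒜 (Submonoid.powers f)).comp
    { toFun := fun r => (⟨s r, hs r⟩ : 𝒜 0)
      map_one' := Subtype.ext (map_one s)
      map_mul' := fun x y => Subtype.ext (map_mul s x y)
      map_zero' := Subtype.ext (map_zero s)
      map_add' := fun x y => Subtype.ext (map_add s x y) }

lemma val_zeroToAway (s : R →+* A) (hs : ∀ r, s r ∈ 𝒜 0) (f : A) (r : R) :
    (zeroToAway s hs f r).val = algebraMap A (Localization (Submonoid.powers f)) (s r) := by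
  simp [zeroToAway, fromZeroRingHom, HomogeneousLocalization.val_mk, ← Localization.mk_one_eq_algebraMap]
  rfl

lemma gproj_mem (n : ℕ) (a : A) : GradedRing.proj 𝒜 n a ∈ 𝒜 n := SetLike.coe_mem _

lemma proj_mul_of_left_mem {i n : ℕ} {a : A} (ha : a ∈ 𝒜 i) (b : A) :
    GradedRing.proj 𝒜 (i + n) (a * b) = a * GradedRing.proj 𝒜 n b := by
  simp only [GradedRing.proj_apply]
  rw [DirectSum.coe_decompose_mul_of_left_mem_of_le 𝒜 ha (Nat.le_add_right i n), Nat.add_sub_cancel_left]

lemma proj_mul_of_mem_zero {a : A} (ha : a ∈ 𝒜 0) (b : A) (n : ℕ) :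
    GradedRing.proj 𝒜 n (a * b) = a * GradedRing.proj 𝒜 n b := by
  simpa using proj_mul_of_left_mem (n := n) ha b

lemma map_gproj (ψ : 𝒜 →+*ᵍ ℬ) (a : A) (n : ℕ) :
    ψ (GradedRing.proj 𝒜 n a) = GradedRing.proj ℬ n (ψ a) := by
  simp [GradedRing.proj_apply]

variable (ψ : 𝒜 →+*ᵍ ℬ) (ρ : R →+* R') (s : R →+* A) (s' : R' →+* B)

lemma irrelevant_le_map_of_isPushout (hs' : ∀ r, s' r ∈ ℬ 0)
    (H : IsPushout (CommRingCat.ofHom ρ) (CommRingCat.ofHom s) (CommRingCat.ofHom s')
      (CommRingCat.ofHom ψ.toRingHom)) : ℬ₊ ≤ 𝒜₊.map ψ := by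
  algebraize_only [ρ, s, s', ψ.toRingHom]
  let : Algebra R B := (s'.comp ρ).toAlgebra
  have : IsScalarTower R R' B := .of_algebraMap_eq' rfl
  have : IsScalarTower R A B := .of_algebraMap_eq' (congrArg CommRingCat.Hom.hom H.w)
  have hP : Algebra.IsPushout R R' A B := CommRingCat.isPushout_iff_isPushout.1 H
  refine (HomogeneousIdeal.irrelevant_le _).2 fun i hi b hb => ?_
  suffices ∀ t : R' ⊗[R] A, GradedRing.proj ℬ i (Algebra.IsPushout.equiv R R' A B t) ∈ (𝒜₊.map ψ).toIdeal by
    have h1 := this ((Algebra.IsPushout.equiv R R' A B).symm b)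
    rw [AlgEquiv.apply_symm_apply, GradedRing.proj_apply, DirectSum.decompose_of_mem_same ℬ hb] at h1
    exact h1
  intro t
  induction t with
  | zero => simp
  | add x y hx hy => rw [map_add, map_add]; exact Ideal.add_mem _ hx hy
  | tmul r a =>
    rw [Algebra.IsPushout.equiv_tmul]
    change GradedRing.proj ℬ i (s' r * ψ a) ∈ _
    rw [proj_mul_of_mem_zero (hs' r), ← map_gproj]
    exact Ideal.mul_mem_left _ _ (Ideal.mem_map_of_mem _
      (HomogeneousIdeal.mem_irrelevant_of_mem _ hi (SetLike.coe_mem _)))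

theorem isPushout_away (hs : ∀ r, s r ∈ 𝒜 0) (hs' : ∀ r, s' r ∈ ℬ 0)
    (H : IsPushout (CommRingCat.ofHom ρ) (CommRingCat.ofHom s) (CommRingCat.ofHom s')
      (CommRingCat.ofHom ψ.toRingHom)) {d : ℕ} {f : A} (hf : f ∈ 𝒜 d) :
    IsPushout (CommRingCat.ofHom ρ) (CommRingCat.ofHom (zeroToAway s hs f))
      (CommRingCat.ofHom (zeroToAway s' hs' (ψ f))) (CommRingCat.ofHom (Away.map ψ f)) := by
  algebraize_only [ρ, s, s', ψ.toRingHom]
  let : Algebra R B := (s'.comp ρ).toAlgebra
  have : IsScalarTower R R' B := .of_algebraMap_eq' rfl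
  have hw : ∀ r, s' (ρ r) = ψ (s r) := fun r => congr($(H.w).hom r)
  have : IsScalarTower R A B := .of_algebraMap_eq hw
  have hP : Algebra.IsPushout R R' A B := CommRingCat.isPushout_iff_isPushout.1 H
  have hψf : ψ f ∈ ℬ d := ψ.2 hf
  let iA : Algebra R (Away 𝒜 f) := (zeroToAway s hs f).toAlgebra
  let iB' : Algebra R' (Away ℬ (ψ f)) := (zeroToAway s' hs' (ψ f)).toAlgebra
  let iB : Algebra R (Away ℬ (ψ f)) := ((zeroToAway s' hs' (ψ f)).comp ρ).toAlgebra
  let iAB : Algebra (Away 𝒜 f) (Away ℬ (ψ f)) := (Away.map ψ f).toAlgebra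
  have : IsScalarTower R R' (Away ℬ (ψ f)) := .of_algebraMap_eq' rfl
  have hw' : ∀ r, zeroToAway s' hs' (ψ f) (ρ r) = Away.map ψ f (zeroToAway s hs f r) := fun r => by
    have e1 : zeroToAway s hs f r = Away.mk 𝒜 hf 0 (s r) (by simpa using hs r) :=
      val_injective _ (by simp [val_zeroToAway, ← Localization.mk_one_eq_algebraMap]; rfl)
    rw [e1, Away.map_mk]
    exact val_injective _ (by simp [val_zeroToAway, hw, ← Localization.mk_one_eq_algebraMap]; rfl)
  have : IsScalarTower R (Away 𝒜 f) (Away ℬ (ψ f)) := .of_algebraMap_eq hw'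
  refine CommRingCat.isPushout_iff_isPushout.2 ⟨?_⟩
  let m : R' ⊗[R] Away 𝒜 f →ₐ[R'] Away ℬ (ψ f) :=
    Algebra.TensorProduct.lift (Algebra.ofId R' _) (IsScalarTower.toAlgHom R (Away 𝒜 f) (Away ℬ (ψ f)))
      (fun _ _ => Commute.all _ _)
  let c : ℕ → (A →ₗ[R] Away 𝒜 f) := fun k =>
    { toFun := fun a => Away.mk 𝒜 hf k (GradedRing.proj 𝒜 (k • d) a) (gproj_mem _ _)
      map_add' := fun a b => val_injective _ (by simp [Localization.add_mk_self])
      map_smul' := fun r a => val_injective _ (by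
        simp only [RingHom.id_apply, Algebra.smul_def]
        change _ = (zeroToAway s hs f r * _).val
        rw [HomogeneousLocalization.val_mul, val_zeroToAway, Away.val_mk, Away.val_mk,
          ← Localization.mk_one_eq_algebraMap, Localization.mk_mul, one_mul]
        congr 1
        exact proj_mul_of_mem_zero (hs r) a _) }
  let e := Algebra.IsPushout.equiv R R' A B
  have hm : ∀ k (t : R' ⊗[R] A),
      m ((c k).lTensor R' t) = Away.mk ℬ hψf k (GradedRing.proj ℬ (k • d) (e t)) (gproj_mem _ _) := by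
    intro k t
    induction t with
    | zero => exact val_injective _ (by simp [Localization.mk_zero])
    | add x y hx hy =>
      rw [map_add, map_add, hx, hy]
      exact val_injective _ (by simp [Localization.add_mk_self])
    | tmul r a =>
      have he : e (r ⊗ₜ a) = s' r * ψ a := Algebra.IsPushout.equiv_tmul R R' A B r a
      rw [LinearMap.lTensor_tmul, Algebra.TensorProduct.lift_tmul]
      apply val_injective
      change (zeroToAway s' hs' (ψ f) r * Away.map ψ f _).val = _
      rw [HomogeneousLocalization.val_mul, val_zeroToAway]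
      simp only [c, LinearMap.coe_mk, AddHom.coe_mk, Away.map_mk, Away.val_mk]
      rw [← Localization.mk_one_eq_algebraMap, Localization.mk_mul, one_mul]
      congr 1
      rw [he, proj_mul_of_mem_zero (hs' r), map_gproj]
  have hc : ∀ k j a, c (j + k) (f ^ j * a) = c k a := fun k j a => val_injective _ (by
    simp only [c, LinearMap.coe_mk, AddHom.coe_mk, Away.val_mk, add_smul,
      proj_mul_of_left_mem (SetLike.pow_mem_graded j hf), Localization.mk_eq_mk_iff, Localization.r_iff_exists]
    exact ⟨1, by simp; ring⟩)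
  have key : ∀ x : R' ⊗[R] Away 𝒜 f, ∃ k, ∀ j, ∃ t, e t ∈ ℬ ((j + k) • d) ∧ (c (j + k)).lTensor R' t = x := by
    intro x
    induction x with
    | zero => exact ⟨0, fun j => ⟨0, by simpa using zero_mem _, by simp⟩⟩
    | tmul r z =>
      obtain ⟨n, a, ha, rfl⟩ := Away.mk_surjective 𝒜 hf z
      refine ⟨n, fun j => ⟨r ⊗ₜ (f ^ j * a), ?_, ?_⟩⟩
      · rw [Algebra.IsPushout.equiv_tmul, add_smul, ← zero_add (j • d + n • d)]
        exact SetLike.mul_mem_graded (hs' r) (ψ.2 (SetLike.mul_mem_graded (SetLike.pow_mem_graded j hf) ha))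
      · rw [LinearMap.lTensor_tmul, hc]
        congr 1
        exact val_injective _ (by simp only [c, LinearMap.coe_mk, AddHom.coe_mk, Away.val_mk, GradedRing.proj_apply, DirectSum.decompose_of_mem_same 𝒜 ha])
    | add x y hx hy =>
      obtain ⟨k, hk⟩ := hx
      obtain ⟨l, hl⟩ := hy
      refine ⟨k + l, fun j => ?_⟩
      obtain ⟨t₁, h₁, h₁'⟩ := hk (j + l)
      obtain ⟨t₂, h₂, h₂'⟩ := hl (j + k)
      rw [add_right_comm, add_assoc] at h₁ h₁'
      rw [add_assoc] at h₂ h₂'
      exact ⟨t₁ + t₂, by rw [map_add]; exact add_mem h₁ h₂, by rw [map_add, h₁', h₂']⟩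
  have hbij : Function.Bijective m := by
    refine ⟨(injective_iff_map_eq_zero m).2 fun x hx => ?_, fun z => ?_⟩
    · obtain ⟨k, hk⟩ := key x
      obtain ⟨t, ht, htx⟩ := hk 0
      rw [zero_add] at ht htx
      rw [← htx, hm] at hx
      have h1 := congrArg HomogeneousLocalization.val hx
      rw [Away.val_mk, HomogeneousLocalization.val_zero, ← Localization.mk_zero 1, Localization.mk_eq_mk_iff,
        Localization.r_iff_exists] at h1
      obtain ⟨⟨_, j, rfl⟩, hj⟩ := h1
      simp only [GradedRing.proj_apply, DirectSum.decompose_of_mem_same ℬ ht] at hj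
      have hj' : ψ f ^ j * e t = 0 := by simpa using hj
      have ht0 : (LinearMap.mulLeft R (f ^ j)).lTensor R' t = 0 := by
        apply e.injective
        rw [map_zero, ← hj']
        clear hj' hj ht htx hx
        induction t with
        | zero => simp
        | add x y hx hy => simp [hx, hy, mul_add]
        | tmul r a =>
          rw [LinearMap.lTensor_tmul, Algebra.IsPushout.equiv_tmul, Algebra.IsPushout.equiv_tmul,
            LinearMap.mulLeft_apply]
          change s' r * ψ (f ^ j * a) = ψ f ^ j * (s' r * ψ a)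
          rw [map_mul, map_pow]
          ring
      have : c k = (c (j + k)) ∘ₗ LinearMap.mulLeft R (f ^ j) := LinearMap.ext fun a => (hc k j a).symm
      rw [← htx, this, LinearMap.lTensor_comp, LinearMap.comp_apply, ht0, map_zero]
    · obtain ⟨k, b, hb, rfl⟩ := Away.mk_surjective ℬ hψf z
      refine ⟨(c k).lTensor R' (e.symm b), ?_⟩
      rw [hm]
      exact val_injective _ (by simp only [Away.val_mk, GradedRing.proj_apply, AlgEquiv.apply_symm_apply, DirectSum.decompose_of_mem_same ℬ hb])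
  exact IsBaseChange.of_equiv (LinearEquiv.ofBijective m.toLinearMap hbij) fun z => by
    simp [m]

end Groth.Agent.RelProjLib
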