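import Mathlib.AlgebraicGeometry.ProjectiveSpectrum.Functor
import Mathlib.AlgebraicGeometry.ProjectiveSpectrum.Proper
import Mathlib.AlgebraicGeometry.Morphisms.ClosedImmersion

/-! General facts on `Proj.map`. -/

noncomputable section

universe u

open CategoryTheory AlgebraicGeometry
open scoped HomogeneousIdeal

namespace Groth.Agent.RelProjLib

/-- The degree-zero part of a graded ring homomorphism. -/
def zeroHom {A B σ τ : Type u} [CommRing A] [SetLike σ A] [AddSubgroupClass σ A]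
    [CommRing B] [SetLike τ B] [AddSubgroupClass τ B] {𝒜 : ℕ → σ} {ℬ : ℕ → τ} [GradedRing 𝒜] [GradedRing ℬ]
    (f : 𝒜 →+*ᵍ ℬ) : 𝒜 0 →+* ℬ 0 where
  toFun a := ⟨f a, f.2 a.2⟩
  map_one' := Subtype.ext (map_one f)
  map_mul' _ _ := Subtype.ext (map_mul f _ _)
  map_zero' := Subtype.ext (map_zero f)
  map_add' _ _ := Subtype.ext (map_add f _ _)

lemma map_toSpecZero {A B σ τ : Type u} [CommRing A] [SetLike σ A] [AddSubgroupClass σ A]
    [CommRing B] [SetLike τ B] [AddSubgroupClass τ B] {𝒜 : ℕ → σ} {ℬ : ℕ → τ} [GradedRing 𝒜] [GradedRing ℬ]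
    (f : 𝒜 →+*ᵍ ℬ) (hf : ℬ₊ ≤ 𝒜₊.map f) :
    Proj.map f hf ≫ Proj.toSpecZero 𝒜 =
      Proj.toSpecZero ℬ ≫ Spec.map (CommRingCat.ofHom (zeroHom f)) := by
  refine (Proj.mapAffineOpenCover f hf).openCover.hom_ext _ _ fun s => ?_
  have key : ∀ (i : ℕ) (hi : 0 < i) (a : A) (ha : a ∈ 𝒜 i),
      Proj.awayι ℬ (f a) (f.2 ha) hi ≫ Proj.map f hf ≫ Proj.toSpecZero 𝒜 =
        Proj.awayι ℬ (f a) (f.2 ha) hi ≫ Proj.toSpecZero ℬ ≫ Spec.map (CommRingCat.ofHom (zeroHom f)) := by
    intro i hi a ha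
    rw [Proj.awayι_comp_map_assoc f hf hi a ha, Proj.awayι_toSpecZero, Proj.awayι_toSpecZero_assoc,
      ← Spec.map_comp, ← Spec.map_comp]
    congr 1
    ext x : 2
    apply HomogeneousLocalization.val_injective
    dsimp [HomogeneousLocalization.Away.map, zeroHom, HomogeneousLocalization.fromZeroRingHom]
    erw [HomogeneousLocalization.map_mk, HomogeneousLocalization.val_mk]
    exact congrArg₂ Localization.mk rfl (Subtype.ext (map_one f))
  exact key s.1 s.1.2 s.2 s.2.2

section chartwise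

variable {A B σ τ : Type u} [CommRing A] [SetLike σ A] [AddSubgroupClass σ A]
    [CommRing B] [SetLike τ B] [AddSubgroupClass τ B] {𝒜 : ℕ → σ} {ℬ : ℕ → τ} [GradedRing 𝒜] [GradedRing ℬ]
    (f : 𝒜 →+*ᵍ ℬ) (hf : ℬ₊ ≤ 𝒜₊.map f)

/-- A property local on the target holds for `Proj.map f` as soon as it holds on every standard chart. -/
lemma map_property (P : MorphismProperty Scheme.{u}) [IsZariskiLocalAtTarget P]
    (h : ∀ (i : ℕ) (_ : 0 < i) (a : A) (_ : a ∈ 𝒜 i),
      P (Spec.map (CommRingCat.ofHom (HomogeneousLocalization.Away.map f a)))) :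
    P (Proj.map f hf) := by
  rw [IsZariskiLocalAtTarget.iff_of_iSup_eq_top (P := P)
    (fun s : { q : ℕ × A // 0 < q.1 ∧ q.2 ∈ 𝒜 q.1 } => Proj.basicOpen 𝒜 s.1.2) ?_]
  · rintro ⟨⟨i, a⟩, hi, ha⟩
    have e : Proj.map f hf ∣_ Proj.basicOpen 𝒜 a =
        ((Proj ℬ).isoOfEq (Proj.map_preimage_basicOpen f hf a)).hom ≫
        (Proj.basicOpenIsoSpec ℬ (f a) (f.2 ha) hi).hom ≫
          Spec.map (CommRingCat.ofHom (HomogeneousLocalization.Away.map f a)) ≫
            (Proj.basicOpenIsoSpec 𝒜 a ha hi).inv := by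
      rw [← cancel_mono (Proj.basicOpen 𝒜 a).ι, morphismRestrict_ι, Category.assoc, Category.assoc,
        Category.assoc, Proj.basicOpenIsoSpec_inv_ι, ← Proj.awayι_comp_map f hf hi a ha, Proj.awayι,
        Category.assoc, Iso.hom_inv_id_assoc, Scheme.isoOfEq_hom_ι_assoc]
    change P (Proj.map f hf ∣_ Proj.basicOpen 𝒜 a)
    rw [e, MorphismProperty.cancel_left_of_respectsIso P, MorphismProperty.cancel_left_of_respectsIso P,
      MorphismProperty.cancel_right_of_respectsIso P]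
    exact h i hi a ha
  · rw [eq_top_iff]
    intro x _
    have hx := ((Proj.affineOpenCover 𝒜).openCover.iSup_opensRange).ge (Set.mem_univ x)
    obtain ⟨s, hs⟩ := TopologicalSpace.Opens.mem_iSup.1 hx
    refine TopologicalSpace.Opens.mem_iSup.2 ⟨⟨(s.1, s.2.1), s.1.2, s.2.2⟩, ?_⟩
    rw [← Proj.opensRange_awayι 𝒜 (s.2 : A) s.2.2 s.1.2]
    exact hs

lemma away_map_surjective (hs : Function.Surjective f) {i : ℕ} {a : A} (ha : a ∈ 𝒜 i) :
    Function.Surjective (HomogeneousLocalization.Away.map f a) := by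
  classical
  intro y
  obtain ⟨n, x, hx, rfl⟩ := HomogeneousLocalization.Away.mk_surjective ℬ (f.2 ha) y
  obtain ⟨x', rfl⟩ := hs x
  refine ⟨.mk 𝒜 ha n (DirectSum.decompose 𝒜 x' (n • i) : A) (SetLike.coe_mem _), ?_⟩
  rw [HomogeneousLocalization.Away.map_mk]
  congr 1
  rw [GradedRingHom.map_directSumDecompose, DirectSum.decompose_of_mem_same _ hx]

lemma isClosedImmersion_map (hs : Function.Surjective f) : IsClosedImmersion (Proj.map f hf) :=
  map_property f hf @IsClosedImmersion fun _ _ _ ha =>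
    IsClosedImmersion.spec_of_surjective _ (away_map_surjective f hs ha)

end chartwise

lemma isReduced_proj {A σ : Type u} [CommRing A] [SetLike σ A] [AddSubgroupClass σ A] (𝒜 : ℕ → σ)
    [GradedRing 𝒜] (h : ∀ x, x ∈ (HomogeneousIdeal.irrelevant 𝒜).toIdeal → IsNilpotent x → x = 0) :
    IsReduced (Proj 𝒜) := by
  apply +allowSynthFailures @IsReduced.of_openCover (𝒰 := (Proj.affineOpenCover 𝒜).openCover)
  intro s
  have key : ∀ (i : ℕ) (_ : 0 < i) (a : A) (ha : a ∈ 𝒜 i),
      _root_.IsReduced (HomogeneousLocalization.Away 𝒜 a) := by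
    intro i hi a ha
    refine ⟨fun y ⟨k, hk⟩ => ?_⟩
    obtain ⟨n, x, hx, rfl⟩ := HomogeneousLocalization.Away.mk_surjective 𝒜 ha y
    apply HomogeneousLocalization.val_injective
    have hk' := congrArg HomogeneousLocalization.val hk
    rw [HomogeneousLocalization.val_pow, HomogeneousLocalization.Away.val_mk, HomogeneousLocalization.val_zero,
      Localization.mk_pow, ← Localization.mk_zero 1, Localization.mk_eq_mk_iff, Localization.r_iff_exists] at hk'
    obtain ⟨⟨_, m, rfl⟩, hm⟩ := hk'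
    have hm' : a ^ m * x ^ k = 0 := by simpa using hm
    have : a * x = 0 := by
      refine h _ (Ideal.mul_mem_right x _ (HomogeneousIdeal.mem_irrelevant_of_mem 𝒜 hi ha)) ⟨m + k, ?_⟩
      rw [mul_pow, pow_add a, pow_add x,
        show a ^ m * a ^ k * (x ^ m * x ^ k) = a ^ m * x ^ k * (a ^ k * x ^ m) by ring, hm', zero_mul]
    rw [HomogeneousLocalization.Away.val_mk, HomogeneousLocalization.val_zero, ← Localization.mk_zero 1,
      Localization.mk_eq_mk_iff, Localization.r_iff_exists]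
    exact ⟨⟨a, 1, pow_one a⟩, by simpa using this⟩
  have := key s.1 s.1.2 s.2 s.2.2
  exact inferInstanceAs (IsReduced (Spec (.of (HomogeneousLocalization.Away 𝒜 (s.2 : A)))))

end Groth.Agent.RelProjLib
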