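import Groth.Agent.RelProjLib.Existence

/-! Restriction between arbitrary affine opens in a relative Proj. -/

noncomputable section

universe u

open CategoryTheory CategoryTheory.Limits AlgebraicGeometry TopologicalSpace Opposite
open scoped HomogeneousIdeal
open RelProj

namespace Groth.Agent.RelProjLib

variable {S : Scheme.{u}} (𝒮 : QCGrAlg S)

/-- The set of functions `s` on `V` with `D(s)` also basic in `U`. -/
def commonBasic {U V : S.Opens} : Set Γ(S, V) := {s | ∃ r : Γ(S, U), S.basicOpen r = S.basicOpen s}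

lemma span_commonBasic {U V : S.Opens} (hU : IsAffineOpen U) (hV : IsAffineOpen V) (i : V ≤ U) :
    Ideal.span (commonBasic (U := U) (V := V)) = ⊤ := by
  rw [← hV.self_le_iSup_basicOpen_iff]
  intro x hx
  obtain ⟨r, s, e, hxr⟩ := exists_basicOpen_le_affine_inter hU hV x ⟨i hx, hx⟩
  exact Opens.mem_iSup.2 ⟨⟨s, r, e⟩, e ▸ hxr⟩

lemma irrelevant_le_map_affine {U V : S.Opens} (hU : IsAffineOpen U) (hV : IsAffineOpen V) (i : V ≤ U) :
    (𝒮.deg V hV)₊ ≤ ((𝒮.deg U hU)₊).map (𝒮.res hU hV i) := by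
  intro y hy
  let J := ((𝒮.deg U hU)₊).map (𝒮.res hU hV i)
  show y ∈ J.toIdeal
  let I : Ideal Γ(S, V) := (J.toIdeal.colon {y}).comap (𝒮.str.app (op V)).hom
  have key : commonBasic (U := U) (V := V) ⊆ (Ideal.radical I : Set Γ(S, V)) := by
    rintro s ⟨r, e⟩
    have hD : IsAffineOpen (S.basicOpen s) := hV.basicOpen s
    have hDU : S.basicOpen s ≤ U := (S.basicOpen_le s).trans i
    have hle : (𝒮.deg (S.basicOpen s) hD)₊ ≤ ((𝒮.deg U hU)₊).map (𝒮.res hU hD hDU) :=
      irrelevant_le_map' 𝒮 ⟨S.basicOpen s, hD⟩ ⟨U, hU⟩ ⟨r, e⟩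
    have hy' : 𝒮.res hV hD (S.basicOpen_le s) y ∈ (𝒮.deg (S.basicOpen s) hD)₊ := by
      rw [HomogeneousIdeal.mem_irrelevant_iff, GradedRing.proj_apply] at hy ⊢
      rw [← GradedRingHom.map_directSumDecompose, hy, map_zero]
    have hy'' : 𝒮.res hV hD (S.basicOpen_le s) y ∈ J.toIdeal.map (𝒮.res hV hD (S.basicOpen_le s)).toRingHom := by
      have h2 := hle hy'
      rw [res_comp 𝒮 hU hV hD i (S.basicOpen_le s)] at h2
      change _ ∈ Ideal.map _ _ at h2
      change _ ∈ Ideal.map _ (Ideal.map _ _)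
      refine Ideal.map_le_iff_le_comap.2 (fun a ha => ?_) h2
      exact Ideal.mem_map_of_mem _ (Ideal.mem_map_of_mem _ ha)
    let _inst := (𝒮.presheaf.map (homOfLE (S.basicOpen_le s)).op).hom.toAlgebra
    have hloc : IsLocalization.Away ((𝒮.str.app (op V)).hom s) (𝒮.presheaf.obj (op (S.basicOpen s))) :=
      𝒮.isQC V hV s
    obtain ⟨_, ⟨k, rfl⟩, hk⟩ := (IsLocalization.algebraMap_mem_map_algebraMap_iff
      (Submonoid.powers ((𝒮.str.app (op V)).hom s)) (𝒮.presheaf.obj (op (S.basicOpen s))) J.toIdeal y).1 hy''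
    refine ⟨k, ?_⟩
    show (𝒮.str.app (op V)).hom (s ^ k) ∈ J.toIdeal.colon {y}
    rw [map_pow, Submodule.mem_colon_singleton]
    exact hk
  have h1 : (1 : Γ(S, V)) ∈ Ideal.radical I :=
    Ideal.span_le.2 key ((span_commonBasic hU hV i).symm ▸ Submodule.mem_top)
  obtain ⟨k, hk⟩ := h1
  rw [one_pow] at hk
  change (𝒮.str.app (op V)).hom 1 ∈ J.toIdeal.colon {y} at hk
  rw [map_one, Submodule.mem_colon_singleton] at hk
  simpa using hk

variable {P : Scheme.{u}} {p : P ⟶ S}
  {chart : ∀ (U : S.Opens) (hU : IsAffineOpen U), (((p ⁻¹ᵁ U : P.Opens) : Scheme.{u}) ≅ Proj (𝒮.deg U hU))}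

/-- The chart immersions are compatible along any inclusion of affine opens. -/
lemma map_res_emb_affine (hP : IsRelProj 𝒮 p chart) {U V : S.Opens} (hU : IsAffineOpen U) (hV : IsAffineOpen V)
    (i : V ≤ U) :
    Proj.map (𝒮.res hU hV i) (irrelevant_le_map_affine 𝒮 hU hV i) ≫ emb p chart U hU = emb p chart V hV := by
  refine Scheme.hom_ext_of_forall _ _ fun y => ?_
  obtain ⟨s, ⟨r, e⟩, hs⟩ : ∃ s ∈ commonBasic (U := U) (V := V),
      (𝒮.str.app (op V)).hom s ∉ y.asHomogeneousIdeal.toIdeal := by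
    by_contra hne
    push Not at hne
    have h2 : Ideal.span (commonBasic (U := U) (V := V)) ≤
        y.asHomogeneousIdeal.toIdeal.comap (𝒮.str.app (op V)).hom := Ideal.span_le.2 hne
    rw [span_commonBasic hU hV i] at h2
    have h1 := h2 (Submodule.mem_top (x := 1))
    rw [Ideal.mem_comap, map_one] at h1
    exact y.isPrime.ne_top (Ideal.eq_top_iff_one _ |>.2 h1)
  have hWV := isAwayZero_res 𝒮 V hV s
  have hOI := isOpenImmersion_map_of_isAwayZero hWV (𝒮.irrelevant_le_map V hV s)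
  let t := Proj.map (𝒮.res hV (hV.basicOpen s) (S.basicOpen_le s)) (𝒮.irrelevant_le_map V hV s)
  refine ⟨t.opensRange, ?_, ?_⟩
  · rw [opensRange_map_of_isAwayZero hWV]; exact hs
  · have hDU : S.basicOpen s ≤ U := (S.basicOpen_le s).trans i
    have main : t ≫ Proj.map (𝒮.res hU hV i) (irrelevant_le_map_affine 𝒮 hU hV i) ≫ emb p chart U hU =
        t ≫ emb p chart V hV := by
      rw [map_res_emb hP V hV s, ← Category.assoc, ← Proj.map_comp]
      simp only [← res_comp 𝒮 hU hV (hV.basicOpen s) i (S.basicOpen_le s)]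
      have gen : ∀ (W : S.Opens) (hW : IsAffineOpen W) (hWU : W ≤ U), S.basicOpen r = W →
          ∀ h, Proj.map (𝒮.res hU hW hWU) h ≫ emb p chart U hU = emb p chart W hW := by
        intro W hW hWU eW h
        subst eW
        exact map_res_emb hP U hU r
      exact gen _ _ _ e _
    rw [← cancel_epi t.isoOpensRange.hom]
    simpa [Scheme.Hom.isoOpensRange] using main

end Groth.Agent.RelProjLib
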