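import Groth.Agent.RelProjLib.QMap

/-! Inverse images of standard opens under `Proj(u)`. -/

noncomputable section

universe u

open CategoryTheory CategoryTheory.Limits AlgebraicGeometry TopologicalSpace Opposite
open scoped HomogeneousIdeal
open RelProj

namespace Groth.Agent.RelProjLib

/-- A homogeneous element of positive degree lying in every relevant prime is nilpotent. -/
lemma isNilpotent_of_forall_mem {A σ : Type u} [CommRing A] [SetLike σ A] [AddSubgroupClass σ A] {𝒜 : ℕ → σ}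
    [GradedRing 𝒜] {d : ℕ} (hd : 0 < d) {a : A} (ha : a ∈ 𝒜 d)
    (h : ∀ y : Proj 𝒜, a ∈ y.asHomogeneousIdeal) : IsNilpotent a := by
  rw [nilpotent_iff_mem_prime]
  intro P hP
  by_contra hne
  let y : Proj 𝒜 := (⟨P.homogeneousCore 𝒜, hP.homogeneousCore, fun hle => hne
    (Ideal.toIdeal_homogeneousCore_le 𝒜 P (hle (HomogeneousIdeal.mem_irrelevant_of_mem _ hd ha)))⟩ :
      ProjectiveSpectrum 𝒜)
  exact hne (Ideal.toIdeal_homogeneousCore_le 𝒜 P (h y))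

variable {S S' : Scheme.{u}} {g : S' ⟶ S} {𝒮 : QCGrAlg S} {𝒮' : QCGrAlg S'} (u : QGrHom g 𝒮 𝒮')
  {P : Scheme.{u}} (p : P ⟶ S)
  {chart : ∀ (U : S.Opens) (hU : IsAffineOpen U), (((p ⁻¹ᵁ U : P.Opens) : Scheme.{u}) ≅ Proj (𝒮.deg U hU))}
  {P' : Scheme.{u}} (p' : P' ⟶ S')
  {chart' : ∀ (U' : S'.Opens) (hU' : IsAffineOpen U'), (((p' ⁻¹ᵁ U' : P'.Opens) : Scheme.{u}) ≅ Proj (𝒮'.deg U' hU'))}

lemma mem_preimage_basicOpen_iff (hP : IsRelProj 𝒮 p chart) (hP' : IsRelProj 𝒮' p' chart')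
    {r : ((domQ u p' chart' : P'.Opens) : Scheme.{u}) ⟶ P}
    (hr : IsProjQMapOn u p chart p' chart' (domQ u p' chart') r) {U : S.Opens} (hU : IsAffineOpen U)
    {U' : S'.Opens} (hU' : IsAffineOpen U') (hle : U' ≤ g ⁻¹ᵁ U) {d : ℕ} (hd : 0 < d)
    {f : 𝒮.presheaf.obj (op U)} (hf : f ∈ 𝒮.deg U hU d) (y : Proj (𝒮'.deg U' hU')) :
    emb p' chart' U' hU' y ∈
        (domQ u p' chart').ι ''ᵁ (r ⁻¹ᵁ (emb p chart U hU ''ᵁ Proj.basicOpen (𝒮.deg U hU) f)) ↔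
      u.gradedAt U hU U' hU' hle f ∉ y.asHomogeneousIdeal := by
  constructor
  · rintro ⟨⟨x, hx⟩, hm, rfl⟩
    exact (mem_image_basicOpen_iff u p p' hP hP' hr hU hU' hle hd hf y hx).1 hm
  · intro hy
    have hd' : emb p' chart' U' hU' y ∈ domQ u p' chart' := by
      have := range_awayEmb_subset_domQ u p' chart' U hU U' hU' hle hd f hf
        ((mem_range_e u p' chart' (i := ⟨U, hU, U', hU', hle, d, hd, f, hf⟩)).2 ⟨y, rfl, hy⟩)
      rwa [Scheme.Opens.range_ι] at this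
    exact ⟨⟨_, hd'⟩, (mem_image_basicOpen_iff u p p' hP hP' hr hU hU' hle hd hf y hd').2 hy, rfl⟩

/-- Standard opens of positive degree form a basis. -/
lemma exists_basicOpen_subset {U : S.Opens} (hU : IsAffineOpen U) {O : P.Opens} (y : Proj (𝒮.deg U hU))
    (hy : emb p chart U hU y ∈ O) :
    ∃ (d : ℕ) (_ : 0 < d) (f : 𝒮.presheaf.obj (op U)), f ∈ 𝒮.deg U hU d ∧ f ∉ y.asHomogeneousIdeal ∧
      emb p chart U hU ''ᵁ Proj.basicOpen (𝒮.deg U hU) f ≤ O := by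
  obtain ⟨_, ⟨g, rfl⟩, hyg, hgO⟩ :=
    (ProjectiveSpectrum.isTopologicalBasis_basic_opens (𝒮.deg U hU)).exists_subset_of_mem_open
      (show y ∈ emb p chart U hU ⁻¹' O from hy) (O.2.preimage (emb p chart U hU).continuous)
  obtain ⟨i, hi⟩ : ∃ i, GradedRing.proj (𝒮.deg U hU) i g ∉ y.asHomogeneousIdeal := by
    have := (ProjectiveSpectrum.basicOpen_eq_union_of_projection (𝒮.deg U hU) g).le hyg
    obtain ⟨i, hi⟩ := Opens.mem_iSup.1 this
    exact ⟨i, hi⟩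
  obtain ⟨k, hk, t, ht, hty⟩ : ∃ k, 0 < k ∧ ∃ t ∈ 𝒮.deg U hU k, t ∉ y.asHomogeneousIdeal := by
    by_contra hne
    push Not at hne
    exact y.not_irrelevant_le ((HomogeneousIdeal.irrelevant_le _).2 fun k hk t ht => hne k hk t ht)
  refine ⟨i + k, Nat.add_pos_right i hk, GradedRing.proj (𝒮.deg U hU) i g * t,
    SetLike.mul_mem_graded (A := 𝒮.deg U hU) (SetLike.coe_mem _) ht,
    fun hm => (y.isPrime.mem_or_mem hm).elim hi hty, ?_⟩
  rintro _ ⟨w, hw, rfl⟩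
  exact hgO ((ProjectiveSpectrum.basicOpen_eq_union_of_projection (𝒮.deg U hU) g).ge
    (Opens.mem_iSup.2 ⟨i, fun hm => hw (Ideal.mul_mem_right _ _ hm)⟩))

/-- `Proj(u)` is dominant iff every nonempty standard open is met. -/
lemma isDominant_iff (hP : IsRelProj 𝒮 p chart) {X : Scheme.{u}} (r : X ⟶ P) :
    IsDominant r ↔ ∀ (U : S.Opens) (hU : IsAffineOpen U) (d : ℕ), 0 < d → ∀ f ∈ 𝒮.deg U hU d,
      (Proj.basicOpen (𝒮.deg U hU) f : Set (Proj (𝒮.deg U hU))).Nonempty →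
        ((r ⁻¹ᵁ (emb p chart U hU ''ᵁ Proj.basicOpen (𝒮.deg U hU) f) : X.Opens) : Set X).Nonempty := by
  constructor
  · intro hr U hU d hd f hf ⟨y, hy⟩
    obtain ⟨x, hx⟩ := hr.denseRange.exists_mem_open
      (emb p chart U hU ''ᵁ Proj.basicOpen (𝒮.deg U hU) f).2 ⟨_, y, hy, rfl⟩
    exact ⟨x, hx⟩
  · intro h
    refine ⟨fun x => mem_closure_iff.2 fun O hO hxO => ?_⟩
    obtain ⟨U, hU, y, rfl⟩ := exists_emb_apply_eq (p := p) (chart := chart) x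
    obtain ⟨d, hd, f, hf, hfy, hfO⟩ := exists_basicOpen_subset p hU (O := ⟨O, hO⟩) y hxO
    obtain ⟨z, hz⟩ := h U hU d hd f hf ⟨y, hfy⟩
    exact ⟨r z, hfO hz, z, rfl⟩

end Groth.Agent.RelProjLib
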