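import Groth.Agent.RelProjLib.QMap
import Groth.Agent.RelProjLib.Preimage

/-! `Proj` of a composite `𝒯 → 𝒮 → g_*𝒮'`. -/

noncomputable section

universe u

open CategoryTheory CategoryTheory.Limits AlgebraicGeometry TopologicalSpace Opposite
open scoped HomogeneousIdeal
open RelProj

namespace Groth.Agent.RelProjLib

variable {S S' : Scheme.{u}} {g : S' ⟶ S} {𝒯 𝒮 : QCGrAlg S} {𝒮' : QCGrAlg S'} {u : QGrHom g 𝒮 𝒮'}
  {v : 𝒯.toQCAlg ⟶ 𝒮.toQCAlg} {hv : IsGradedHom v} {u' : QGrHom g 𝒯 𝒮'}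
  (hu' : ∀ U : S.Opens, u'.app U = v.hom.app (op U) ≫ u.app U)

lemma gradedAt_ofHom_apply {𝒜 ℬ : QCGrAlg S} (φ : 𝒜.toQCAlg ⟶ ℬ.toQCAlg) (hφ : IsGradedHom φ) (U : S.Opens)
    (hU : IsAffineOpen U) (hle : U ≤ (𝟙 S : S ⟶ S) ⁻¹ᵁ U) (x : 𝒜.presheaf.obj (op U)) :
    (QGrHom.ofHom φ hφ).gradedAt U hU U hU hle x = (φ.hom.app (op U)).hom x := by
  rw [QGrHom.gradedAt_apply]
  change (ℬ.presheaf.map (homOfLE hle).op).hom ((φ.hom.app (op U)).hom x) = _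
  have e : ℬ.presheaf.map (homOfLE hle).op = 𝟙 (ℬ.presheaf.obj (op U)) := ℬ.presheaf.map_id _
  rw [e]; rfl

variable (hv) in
/-- `v` over `U`. -/
abbrev homAt (U : S.Opens) (hU : IsAffineOpen U) : 𝒯.deg U hU →+*ᵍ 𝒮.deg U hU :=
  (QGrHom.ofHom v hv).gradedAt U hU U hU (le_refl U)

include hu' in
lemma gradedAt_comp (U : S.Opens) (hU : IsAffineOpen U) (U' : S'.Opens) (hU' : IsAffineOpen U')
    (hle : U' ≤ g ⁻¹ᵁ U) :
    u'.gradedAt U hU U' hU' hle = (u.gradedAt U hU U' hU' hle).comp (homAt hv U hU) :=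
  GradedRingHom.ext fun x => by
    rw [GradedRingHom.comp_apply, gradedAt_ofHom_apply, QGrHom.gradedAt_apply, QGrHom.gradedAt_apply,
      RelSpec.QHom.appLE_eq, RelSpec.QHom.appLE_eq, hu' U]
    rfl

variable {P' : Scheme.{u}} {p' : P' ⟶ S'}
  {chart' : ∀ (U' : S'.Opens) (hU' : IsAffineOpen U'), (((p' ⁻¹ᵁ U' : P'.Opens) : Scheme.{u}) ≅ Proj (𝒮'.deg U' hU'))}

include hu' hv in
lemma domQ_comp_le : domQ u' p' chart' ≤ domQ u p' chart' := by
  intro x hx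
  obtain ⟨i, hi⟩ := exists_chart_of_mem_domQ u' p' chart' hx
  obtain ⟨y, rfl, hy⟩ := (mem_range_e u' p' chart').1 hi
  rw [gradedAt_comp hu' (hv := hv)] at hy
  have := range_awayEmb_subset_domQ u p' chart' i.U i.hU i.U' i.hU' i.hle i.hd (homAt hv i.U i.hU i.f)
    ((homAt hv i.U i.hU).2 i.hf)
    ((mem_range_e u p' chart' (i := ⟨i.U, i.hU, i.U', i.hU', i.hle, i.d, i.hd, _, (homAt hv i.U i.hU).2 i.hf⟩)).2
      ⟨y, rfl, hy⟩)
  rwa [Scheme.Opens.range_ι] at this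

include hu' hv in
lemma domQ_le_comp_of_eventually (hTN : ∃ n : ℕ, ∀ k, n ≤ k → ∀ (U : S.Opens) (hU : IsAffineOpen U),
    ∀ y ∈ 𝒮.deg U hU k, ∃ x ∈ 𝒯.deg U hU k, (v.hom.app (op U)).hom x = y) :
    domQ u p' chart' ≤ domQ u' p' chart' := by
  obtain ⟨n, hn⟩ := hTN
  intro x hx
  obtain ⟨i, hi⟩ := exists_chart_of_mem_domQ u p' chart' hx
  obtain ⟨y, rfl, hy⟩ := (mem_range_e u p' chart').1 hi
  obtain ⟨a, ha, hab⟩ := hn ((n + 1) • i.d) ((Nat.le_succ n).trans (Nat.le_mul_of_pos_right _ i.hd)) i.U i.hU _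
    (SetLike.pow_mem_graded (A := 𝒮.deg i.U i.hU) (n + 1) i.hf)
  have hy' : u'.gradedAt i.U i.hU i.U' i.hU' i.hle a ∉ y.asHomogeneousIdeal := by
    rw [gradedAt_comp hu' (hv := hv), GradedRingHom.comp_apply, gradedAt_ofHom_apply, hab, map_pow]
    exact fun hm => hy (y.isPrime.mem_of_pow_mem _ hm)
  have := range_awayEmb_subset_domQ u' p' chart' i.U i.hU i.U' i.hU' i.hle
    (Nat.mul_pos (Nat.succ_pos n) i.hd) a ha
    ((mem_range_e u' p' chart' (i := ⟨i.U, i.hU, i.U', i.hU', i.hle, _, Nat.mul_pos (Nat.succ_pos n) i.hd, a, ha⟩)).2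
      ⟨y, rfl, hy'⟩)
  rwa [Scheme.Opens.range_ι] at this

variable {PS : Scheme.{u}} {pS : PS ⟶ S}
  {chartS : ∀ (U : S.Opens) (hU : IsAffineOpen U), (((pS ⁻¹ᵁ U : PS.Opens) : Scheme.{u}) ≅ Proj (𝒮.deg U hU))}
  {PT : Scheme.{u}} {pT : PT ⟶ S}
  {chartT : ∀ (U : S.Opens) (hU : IsAffineOpen U), (((pT ⁻¹ᵁ U : PT.Opens) : Scheme.{u}) ≅ Proj (𝒯.deg U hU))}

include hu' in
/-- `r` lands in `G(v)` over `G(u')`, and followed by `Proj(v)` it is `r'`. -/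
lemma exists_comp
    {r : ((domQ u p' chart' : P'.Opens) : Scheme.{u}) ⟶ PS}
    (hr : IsProjQMapOn u pS chartS p' chart' (domQ u p' chart') r)
    {r' : ((domQ u' p' chart' : P'.Opens) : Scheme.{u}) ⟶ PT}
    (hr' : IsProjQMapOn u' pT chartT p' chart' (domQ u' p' chart') r')
    {rv : ((domQ (QGrHom.ofHom v hv) pS chartS : PS.Opens) : Scheme.{u}) ⟶ PT}
    (hrv : IsProjQMapOn (QGrHom.ofHom v hv) pT chartT pS chartS (domQ (QGrHom.ofHom v hv) pS chartS) rv) :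
    ∃ l : ((domQ u' p' chart' : P'.Opens) : Scheme.{u}) ⟶ (domQ (QGrHom.ofHom v hv) pS chartS : PS.Opens),
      l ≫ (domQ (QGrHom.ofHom v hv) pS chartS).ι = P'.homOfLE (domQ_comp_le hu' (hv := hv)) ≫ r ∧ l ≫ rv = r' := by
  let W' := domQ u' p' chart'
  let Wv := domQ (QGrHom.ofHom v hv) pS chartS
  let i₀ := P'.homOfLE (domQ_comp_le hu' (hv := hv) (p' := p') (chart' := chart'))
  -- the equations on a chart, with the composite abstracted
  have key : ∀ (i : ChartIdx (g := g) (𝒮 := 𝒯)) (φ : 𝒯.deg i.U i.hU →+*ᵍ 𝒮'.deg i.U' i.hU'),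
      φ = (u.gradedAt i.U i.hU i.U' i.hU' i.hle).comp (homAt hv i.U i.hU) →
      ∀ (hW : Set.range (Proj.awayι (𝒮'.deg i.U' i.hU') (φ i.f) (φ.2 i.hf) i.hd ≫ emb p' chart' i.U' i.hU') ⊆
        Set.range W'.ι),
      ∃ t : Spec (.of (HomogeneousLocalization.Away (𝒮'.deg i.U' i.hU') (φ i.f))) ⟶ (Wv : Scheme.{u}),
        IsOpenImmersion.lift W'.ι (Proj.awayι (𝒮'.deg i.U' i.hU') (φ i.f) (φ.2 i.hf) i.hd ≫
            emb p' chart' i.U' i.hU') hW ≫ i₀ ≫ r = t ≫ Wv.ι ∧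
        t ≫ rv = Spec.map (CommRingCat.ofHom (HomogeneousLocalization.Away.map φ i.f)) ≫
          Proj.awayι (𝒯.deg i.U i.hU) i.f i.hf i.hd ≫ emb pT chartT i.U i.hU := by
    rintro i _ rfl hW
    let f' := homAt hv i.U i.hU i.f
    have hf' : f' ∈ 𝒮.deg i.U i.hU i.d := (homAt hv i.U i.hU).2 i.hf
    have hWv := range_awayEmb_subset_domQ (QGrHom.ofHom v hv) pS chartS i.U i.hU i.U i.hU (le_refl i.U) i.hd i.f i.hf
    have hWu := range_awayEmb_subset_domQ u p' chart' i.U i.hU i.U' i.hU' i.hle i.hd f' hf'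
    refine ⟨Spec.map (CommRingCat.ofHom (HomogeneousLocalization.Away.map (u.gradedAt i.U i.hU i.U' i.hU' i.hle) f')) ≫
      IsOpenImmersion.lift Wv.ι (awayEmb (QGrHom.ofHom v hv) pS chartS i.U i.hU i.U i.hU (le_refl i.U) i.hd i.f i.hf) hWv,
      ?_, ?_⟩
    · rw [Category.assoc, IsOpenImmersion.lift_fac]
      have e1 : IsOpenImmersion.lift W'.ι (Proj.awayι (𝒮'.deg i.U' i.hU') _
          ((u.gradedAt i.U i.hU i.U' i.hU' i.hle).2 hf') i.hd ≫ emb p' chart' i.U' i.hU') hW ≫ i₀ =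
          IsOpenImmersion.lift (domQ u p' chart').ι (awayEmb u p' chart' i.U i.hU i.U' i.hU' i.hle i.hd f' hf') hWu := by
        rw [← cancel_mono (domQ u p' chart').ι, Category.assoc, IsOpenImmersion.lift_fac, Scheme.homOfLE_ι,
          IsOpenImmersion.lift_fac]
        rfl
      exact ((Category.assoc _ _ _).symm.trans (e1 =≫ r)).trans
        (hr i.U i.hU i.U' i.hU' i.hle i.d i.hd f' hf' hWu)
    · rw [Category.assoc]
      refine (congrArg (Spec.map _ ≫ ·) (hrv i.U i.hU i.U i.hU (le_refl i.U) i.d i.hd i.f i.hf hWv)).trans ?_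
      rw [← Category.assoc, ← Spec.map_comp, ← CommRingCat.ofHom_comp]
      congr 3
      exact (HomogeneousLocalization.Away.map_comp _ _ _).symm
  have hr0 : Set.range (i₀ ≫ r) ⊆ Set.range Wv.ι := by
    rintro _ ⟨x, rfl⟩
    obtain ⟨i, z, hz⟩ := exists_chart_of_mem_domQ u' p' chart' x.2
    have hW := range_awayEmb_subset_domQ u' p' chart' i.U i.hU i.U' i.hU' i.hle i.hd i.f i.hf
    obtain ⟨t, ht, -⟩ := key i _ (gradedAt_comp hu' i.U i.hU i.U' i.hU' i.hle) hW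
    refine ⟨t z, ?_⟩
    rw [← Scheme.Hom.comp_apply, ← ht, Scheme.Hom.comp_apply]
    congr 1
    refine W'.ι.isOpenEmbedding.injective ?_
    rw [← Scheme.Hom.comp_apply, IsOpenImmersion.lift_fac]
    exact hz
  refine ⟨IsOpenImmersion.lift Wv.ι (i₀ ≫ r) hr0, IsOpenImmersion.lift_fac _ _ _, ?_⟩
  refine Scheme.hom_ext_of_forall _ _ fun x => ?_
  obtain ⟨i, z, hz⟩ := exists_chart_of_mem_domQ u' p' chart' x.2
  have hOI := isOpenImmersion_e u' p' chart' i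
  have hW := range_awayEmb_subset_domQ u' p' chart' i.U i.hU i.U' i.hU' i.hle i.hd i.f i.hf
  let e := IsOpenImmersion.lift W'.ι (i.e u' p' chart') hW
  have he : e ≫ W'.ι = i.e u' p' chart' := IsOpenImmersion.lift_fac _ _ _
  have : IsOpenImmersion (e ≫ W'.ι) := by rw [he]; infer_instance
  have : IsOpenImmersion e := IsOpenImmersion.of_comp e W'.ι
  refine ⟨e.opensRange, ⟨z, W'.ι.isOpenEmbedding.injective ?_⟩, ?_⟩
  · rw [← Scheme.Hom.comp_apply, he]; exact hz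
  · obtain ⟨t, ht, ht'⟩ := key i _ (gradedAt_comp hu' i.U i.hU i.U' i.hU' i.hle) hW
    rw [← cancel_epi e.isoOpensRange.hom, Scheme.Hom.isoOpensRange_hom_ι_assoc,
      Scheme.Hom.isoOpensRange_hom_ι_assoc]
    have e2 : e ≫ IsOpenImmersion.lift Wv.ι (i₀ ≫ r) hr0 = t := by
      rw [← cancel_mono Wv.ι, Category.assoc, IsOpenImmersion.lift_fac]
      exact ht
    refine ((Category.assoc _ _ _).symm.trans (e2 =≫ rv)).trans (ht'.trans ?_)
    exact (hr' i.U i.hU i.U' i.hU' i.hle i.d i.hd i.f i.hf hW).symm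

end Groth.Agent.RelProjLib
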