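import Groth.Agent.RelProjLib.ProjMap
import Mathlib.AlgebraicGeometry.Morphisms.OpenImmersion

/-! `Proj.map` of a localization at a degree-zero element is an open immersion. -/

noncomputable section

universe u

open CategoryTheory AlgebraicGeometry HomogeneousLocalization
open scoped HomogeneousIdeal

namespace Groth.Agent.RelProjLib

variable {A B σ τ : Type u} [CommRing A] [SetLike σ A] [AddSubgroupClass σ A]
    [CommRing B] [SetLike τ B] [AddSubgroupClass τ B] {𝒜 : ℕ → σ} {ℬ : ℕ → τ} [GradedRing 𝒜] [GradedRing ℬ]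

/-- `ψ : A → B` exhibits `B` as `A[1/c]`, `c` of degree zero. -/
structure IsAwayZero (ψ : 𝒜 →+*ᵍ ℬ) (c : 𝒜 0) : Prop where
  isUnit : IsUnit (ψ (c : A))
  surj : ∀ b : B, ∃ (x : A) (k : ℕ), b * ψ (c : A) ^ k = ψ x
  ker : ∀ x : A, ψ x = 0 → ∃ k : ℕ, (c : A) ^ k * x = 0

variable {ψ : 𝒜 →+*ᵍ ℬ} {c : 𝒜 0}

lemma IsAwayZero.isUnit_zeroHom (h : IsAwayZero ψ c) : IsUnit (zeroHom ψ c) := by
  obtain ⟨v, hv⟩ := isUnit_iff_exists_inv.1 h.isUnit
  refine isUnit_iff_exists_inv.2 ⟨GradedRing.projZeroRingHom' ℬ v, ?_⟩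
  have e := congrArg (GradedRing.projZeroRingHom' ℬ) hv
  rw [map_mul, map_one] at e
  have e' : GradedRing.projZeroRingHom' ℬ (ψ (c : A)) = zeroHom ψ c :=
    GradedRing.projZeroRingHom'_apply_coe ℬ (zeroHom ψ c)
  rwa [e'] at e

lemma away_isLocalization (h : IsAwayZero ψ c) {i : ℕ} {a : A} (ha : a ∈ 𝒜 i) :
    letI := (Away.map ψ a).toAlgebra
    IsLocalization.Away (fromZeroRingHom 𝒜 (Submonoid.powers a) c) (Away ℬ (ψ a)) := by
  classical
  let : Algebra (Away 𝒜 a) (Away ℬ (ψ a)) := (Away.map ψ a).toAlgebra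
  have hc : Away.map ψ a (fromZeroRingHom 𝒜 (Submonoid.powers a) c) =
      fromZeroRingHom ℬ (Submonoid.powers (ψ a)) (zeroHom ψ c) := by
    apply val_injective
    dsimp [Away.map, zeroHom, fromZeroRingHom]
    erw [HomogeneousLocalization.map_mk, HomogeneousLocalization.val_mk]
    exact congrArg₂ Localization.mk rfl (Subtype.ext (map_one ψ))
  refine (isLocalization_iff (Submonoid.powers (fromZeroRingHom 𝒜 (Submonoid.powers a) c))
    (Away ℬ (ψ a))).2 ⟨?_, ?_, ?_⟩
  · rintro ⟨_, k, rfl⟩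
    rw [RingHom.algebraMap_toAlgebra, map_pow, hc]
    exact (h.isUnit_zeroHom.map _).pow k
  · intro z
    obtain ⟨n, b, hb, rfl⟩ := Away.mk_surjective ℬ (ψ.2 ha) z
    obtain ⟨x, k, hx⟩ := h.surj b
    have hbk : b * ψ (c : A) ^ k ∈ ℬ (n • i) := by
      simpa using SetLike.mul_mem_graded (A := ℬ) hb (SetLike.pow_mem_graded k (ψ.2 c.2))
    have hx' : ψ (DirectSum.decompose 𝒜 x (n • i) : A) = b * ψ (c : A) ^ k := by
      rw [GradedRingHom.map_directSumDecompose, ← hx, DirectSum.decompose_of_mem_same _ hbk]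
    refine ⟨(Away.mk 𝒜 ha n (DirectSum.decompose 𝒜 x (n • i) : A) (SetLike.coe_mem _),
      ⟨_, k, rfl⟩), ?_⟩
    apply val_injective
    rw [RingHom.algebraMap_toAlgebra]
    simp only [map_pow, hc, Away.map_mk, val_mul, val_pow, Away.val_mk]
    erw [HomogeneousLocalization.val_mk]
    rw [Localization.mk_pow, Localization.mk_mul, hx']
    congr 1
    exact Subtype.ext (by simp)
  · intro x y hxy
    rw [RingHom.algebraMap_toAlgebra] at hxy
    have h0 : Away.map ψ a (x - y) = 0 := by rw [map_sub, hxy, sub_self]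
    obtain ⟨n, z, hz, he⟩ := Away.mk_surjective 𝒜 ha (x - y)
    rw [← he, Away.map_mk] at h0
    have h1 := congrArg val h0
    rw [Away.val_mk, val_zero, ← Localization.mk_zero 1, Localization.mk_eq_mk_iff,
      Localization.r_iff_exists] at h1
    obtain ⟨⟨_, m, rfl⟩, hm⟩ := h1
    have hm' : ψ (a ^ m * z) = 0 := by simpa using hm
    obtain ⟨k, hk⟩ := h.ker _ hm'
    refine ⟨⟨_, k, rfl⟩, ?_⟩
    rw [← sub_eq_zero, ← mul_sub, ← he]
    apply val_injective
    simp only [map_pow, val_mul, val_pow, Away.val_mk, val_zero]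
    erw [HomogeneousLocalization.val_mk]
    rw [Localization.mk_pow, Localization.mk_mul, ← Localization.mk_zero 1, Localization.mk_eq_mk_iff,
      Localization.r_iff_exists]
    exact ⟨⟨a ^ m, m, rfl⟩, by simp; linear_combination hk⟩

lemma isOpenImmersion_map_of_isAwayZero (h : IsAwayZero ψ c) (hψ : ℬ₊ ≤ 𝒜₊.map ψ) :
    IsOpenImmersion (Proj.map ψ hψ) := by
  refine map_property ψ hψ @IsOpenImmersion fun i _ a ha => ?_
  let : Algebra (Away 𝒜 a) (Away ℬ (ψ a)) := (Away.map ψ a).toAlgebra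
  have := away_isLocalization h ha
  exact IsOpenImmersion.of_isLocalization (R := Away 𝒜 a) (S := Away ℬ (ψ a))
    (fromZeroRingHom 𝒜 (Submonoid.powers a) c)

lemma opensRange_map_of_isAwayZero (h : IsAwayZero ψ c) (hψ : ℬ₊ ≤ 𝒜₊.map ψ)
    [IsOpenImmersion (Proj.map ψ hψ)] :
    (Proj.map ψ hψ).opensRange = Proj.basicOpen 𝒜 (c : A) := by
  apply le_antisymm
  · rintro _ ⟨y, rfl⟩
    show ψ (c : A) ∉ y.asHomogeneousIdeal.toIdeal
    exact fun hy => y.isPrime.ne_top (Ideal.eq_top_of_isUnit_mem _ hy h.isUnit)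
  · intro x hx
    let : Algebra A B := ψ.toRingHom.toAlgebra
    have hloc : IsLocalization.Away (c : A) B := by
      refine (isLocalization_iff _ _).2 ⟨?_, ?_, ?_⟩
      · rintro ⟨_, k, rfl⟩
        simpa [RingHom.algebraMap_toAlgebra] using h.isUnit.pow k
      · intro b
        obtain ⟨a, k, e⟩ := h.surj b
        exact ⟨(a, ⟨_, k, rfl⟩), by simpa [RingHom.algebraMap_toAlgebra] using e⟩
      · intro a b e
        obtain ⟨k, hk⟩ := h.ker (a - b) (by rw [map_sub]; exact sub_eq_zero.2 e)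
        exact ⟨⟨_, k, rfl⟩, sub_eq_zero.1 (by simpa [mul_sub] using hk)⟩
    have hd : Disjoint (Submonoid.powers (c : A) : Set A) (x.asHomogeneousIdeal.toIdeal : Set A) := by
      rw [Set.disjoint_left]
      rintro _ ⟨k, rfl⟩ hk
      exact hx (x.isPrime.mem_of_pow_mem k hk)
    have hp := IsLocalization.isPrime_of_isPrime_disjoint (Submonoid.powers (c : A)) B
      x.asHomogeneousIdeal.toIdeal x.isPrime hd
    have hc : Ideal.comap (algebraMap A B) (x.asHomogeneousIdeal.toIdeal.map (algebraMap A B)) =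
        x.asHomogeneousIdeal.toIdeal :=
      IsLocalization.comap_map_of_isPrime_disjoint (Submonoid.powers (c : A)) B x.isPrime hd
    let y : ProjectiveSpectrum ℬ :=
      { asHomogeneousIdeal := x.asHomogeneousIdeal.map ψ
        isPrime := hp
        not_irrelevant_le := fun hle => x.not_irrelevant_le fun a ha => by
          have : ψ a ∈ x.asHomogeneousIdeal.map ψ := hle (by
            rw [HomogeneousIdeal.mem_irrelevant_iff, GradedRing.proj_apply,
              ← GradedRingHom.map_directSumDecompose]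
            rw [HomogeneousIdeal.mem_irrelevant_iff, GradedRing.proj_apply] at ha
            rw [ha, map_zero])
          exact hc.le this }
    refine ⟨y, ?_⟩
    apply ProjectiveSpectrum.ext
    exact HomogeneousIdeal.ext hc

lemma toSpecZero_preimage_basicOpen (c : 𝒜 0) :
    Proj.toSpecZero 𝒜 ⁻¹ᵁ (PrimeSpectrum.basicOpen c) = Proj.basicOpen 𝒜 (c : A) := by
  ext x
  have hx := ((Proj.affineOpenCover 𝒜).openCover.iSup_opensRange).ge (Set.mem_univ x)
  obtain ⟨s, hs⟩ := TopologicalSpace.Opens.mem_iSup.1 hx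
  obtain ⟨y, rfl⟩ := hs
  have key : ∀ (i : ℕ) (hi : 0 < i) (a : A) (ha : a ∈ 𝒜 i) (y : Spec (.of (Away 𝒜 a))),
      (Proj.toSpecZero 𝒜 (Proj.awayι 𝒜 a ha hi y) ∈ PrimeSpectrum.basicOpen c ↔
        Proj.awayι 𝒜 a ha hi y ∈ Proj.basicOpen 𝒜 (c : A)) := by
    intro i hi a ha y
    have hca : (c : A) * a ∈ 𝒜 i := by simpa using SetLike.mul_mem_graded c.2 ha
    have h2 : Away.isLocalizationElem ha hca = fromZeroRingHom 𝒜 (Submonoid.powers a) c ^ i := by
      apply val_injective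
      rw [Away.val_mk, val_pow]
      erw [HomogeneousLocalization.val_mk]
      rw [Localization.mk_pow, Localization.mk_eq_mk_iff, Localization.r_iff_exists]
      exact ⟨1, by simp [mul_pow, mul_comm]⟩
    have h3 := congrArg (y ∈ ·) (Proj.awayι_preimage_basicOpen 𝒜 ha hi hca hi)
    simp only [eq_iff_iff] at h3
    rw [h2, PrimeSpectrum.basicOpen_pow _ i hi, Proj.basicOpen_mul] at h3
    rw [← Scheme.Hom.comp_apply, Proj.awayι_toSpecZero]
    refine Iff.trans ?_ (h3.symm.trans ⟨And.left, fun hc' => ⟨hc', ?_⟩⟩)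
    · rfl
    · show Proj.awayι 𝒜 a ha hi y ∈ Proj.basicOpen 𝒜 a
      rw [← Proj.opensRange_awayι 𝒜 a ha hi]
      exact ⟨y, rfl⟩
  exact key s.1 s.1.2 s.2 s.2.2 y

end Groth.Agent.RelProjLib
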