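import Groth.Agent.RelProjLib.Basic
import Groth.Agent.RelProjLib.Localization

/-! Existence of the relative Proj of a quasi-coherent graded algebra. -/

noncomputable section

universe u

open CategoryTheory CategoryTheory.Limits AlgebraicGeometry TopologicalSpace Opposite
open scoped HomogeneousIdeal
open RelProj

namespace Groth.Agent.RelProjLib

variable {S : Scheme.{u}} (𝒮 : QCGrAlg S)

lemma isAwayZero_res (U : S.Opens) (hU : IsAffineOpen U) (r : Γ(S, U)) :
    IsAwayZero (𝒮.res hU (hU.basicOpen r) (S.basicOpen_le r)) ((𝒮.strZero U hU).hom r) := by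
  let _inst := (𝒮.presheaf.map (homOfLE (S.basicOpen_le r)).op).hom.toAlgebra
  have hloc : IsLocalization.Away ((𝒮.str.app (op U)).hom r) (𝒮.presheaf.obj (op (S.basicOpen r))) :=
    𝒮.isQC U hU r
  refine ⟨IsLocalization.map_units (M := Submonoid.powers ((𝒮.str.app (op U)).hom r))
      (𝒮.presheaf.obj (op (S.basicOpen r))) ⟨_, 1, pow_one _⟩, fun b => ?_, fun x hx => ?_⟩
  · obtain ⟨⟨x, _, k, rfl⟩, hk⟩ :=
      IsLocalization.surj (Submonoid.powers ((𝒮.str.app (op U)).hom r)) b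
    refine ⟨x, k, ?_⟩
    rw [← map_pow]
    exact hk
  · obtain ⟨⟨_, k, rfl⟩, hk⟩ := (IsLocalization.map_eq_zero_iff
      (Submonoid.powers ((𝒮.str.app (op U)).hom r)) (𝒮.presheaf.obj (op (S.basicOpen r))) x).1 hx
    exact ⟨k, hk⟩

lemma irrelevant_le_map' (V U : S.AffineZariskiSite) (h : V ≤ U) :
    (𝒮.deg V.1 V.2)₊ ≤ ((𝒮.deg U.1 U.2)₊).map (𝒮.res U.2 V.2 (Scheme.AffineZariskiSite.toOpens_mono h)) := by
  obtain ⟨V, hV⟩ := V
  obtain ⟨r, hr⟩ := h
  change S.basicOpen r = V at hr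
  subst hr
  exact 𝒮.irrelevant_le_map U.1 U.2 r

lemma res_comp {U V W : S.Opens} (hU : IsAffineOpen U) (hV : IsAffineOpen V) (hW : IsAffineOpen W)
    (i : V ≤ U) (j : W ≤ V) :
    𝒮.res hU hW (j.trans i) = (𝒮.res hV hW j).comp (𝒮.res hU hV i) := by
  apply GradedRingHom.ext
  intro x
  show (𝒮.presheaf.map (homOfLE (j.trans i)).op).hom x =
    (𝒮.presheaf.map (homOfLE j).op).hom ((𝒮.presheaf.map (homOfLE i).op).hom x)
  rw [← CommRingCat.comp_apply, ← Functor.map_comp]
  rfl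

/-- The functor `U ↦ Proj 𝒮(U)` on the affine Zariski site. -/
def projFunctor : S.AffineZariskiSite ⥤ Scheme.{u} where
  obj U := Proj (𝒮.deg U.1 U.2)
  map {V U} f := Proj.map (𝒮.res U.2 V.2 (Scheme.AffineZariskiSite.toOpens_mono f.le))
    (irrelevant_le_map' 𝒮 V U f.le)
  map_id U := by
    refine Eq.trans ?_ Proj.map_id
    congr 1
    apply GradedRingHom.ext
    intro x
    exact congr($(𝒮.presheaf.map_id (op U.1)).hom x)
  map_comp {W V U} f g := by
    rw [← Proj.map_comp]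
    congr 1
    exact res_comp 𝒮 U.2 V.2 W.2 _ _

/-- The structure map of the chart over `U`. -/
def toAffine (U : S.Opens) (hU : IsAffineOpen U) : Proj (𝒮.deg U hU) ⟶ U :=
  Proj.toSpecZero (𝒮.deg U hU) ≫ Spec.map (𝒮.strZero U hU) ≫ hU.isoSpec.inv

lemma toAffine_ι (U : S.Opens) (hU : IsAffineOpen U) :
    toAffine 𝒮 U hU ≫ U.ι = Proj.toSpecZero (𝒮.deg U hU) ≫ Spec.map (𝒮.strZero U hU) ≫ hU.fromSpec := by
  simp [toAffine]

/-- `toAffine` is natural. -/
def projNatTrans : projFunctor 𝒮 ⟶ (Scheme.AffineZariskiSite.directedCover S).functorOfLocallyDirected where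
  app U := toAffine 𝒮 U.1 U.2
  naturality {V U} f := by
    change Proj.map _ (irrelevant_le_map' 𝒮 V U f.le) ≫ toAffine 𝒮 U.1 U.2 =
      toAffine 𝒮 V.1 V.2 ≫ S.homOfLE (Scheme.AffineZariskiSite.toOpens_mono f.le)
    rw [← cancel_mono U.1.ι, Category.assoc, toAffine_ι, Category.assoc, Scheme.homOfLE_ι, toAffine_ι,
      ← Category.assoc (Proj.map _ _), map_toSpecZero, Category.assoc,
      ← U.2.map_fromSpec V.2 (homOfLE (Scheme.AffineZariskiSite.toOpens_mono f.le)).op,
      ← Spec.map_comp_assoc, ← Spec.map_comp_assoc]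
    congr 3
    refine CommRingCat.hom_ext (RingHom.ext fun r => Subtype.ext ?_)
    exact congr($(𝒮.str.naturality (homOfLE (Scheme.AffineZariskiSite.toOpens_mono f.le)).op).hom r).symm

/-- The relative gluing datum of a relative Proj. -/
def projGlueData : (Scheme.AffineZariskiSite.directedCover S).RelativeGluingData where
  functor := projFunctor 𝒮
  natTrans := projNatTrans 𝒮
  equifibered := by
    intro V U f
    obtain ⟨V, hV⟩ := V
    obtain ⟨r, hr⟩ := f.le
    change S.basicOpen r = V at hr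
    subst hr
    have h := isAwayZero_res 𝒮 U.1 U.2 r
    have hOI := isOpenImmersion_map_of_isAwayZero h (𝒮.irrelevant_le_map U.1 U.2 r)
    refine (IsOpenImmersion.isPullback (toAffine 𝒮 (S.basicOpen r) (U.2.basicOpen r))
      (Proj.map (𝒮.res U.2 (U.2.basicOpen r) (S.basicOpen_le r)) (𝒮.irrelevant_le_map U.1 U.2 r))
      (S.homOfLE (S.basicOpen_le r)) (toAffine 𝒮 U.1 U.2) ((projNatTrans 𝒮).naturality f) ?_).flip
    rw [opensRange_map_of_isAwayZero h]
    have e1 : (S.homOfLE (S.basicOpen_le r)).opensRange = U.1.ι ⁻¹ᵁ S.basicOpen r := by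
      exact Scheme.opensRange_homOfLE _
    rw [e1, ← Scheme.Hom.comp_preimage, toAffine_ι, Scheme.Hom.comp_preimage, Scheme.Hom.comp_preimage,
      U.2.fromSpec_preimage_basicOpen, SpecMap_preimage_basicOpen]
    exact toSpecZero_preimage_basicOpen _

instance : ((projGlueData 𝒮).functor ⋙ Scheme.forget).IsLocallyDirected :=
  Scheme.Cover.RelativeGluingData.instIsLocallyDirectedI₀CompFunctorForgetOfIsThin ..

lemma exists_isRelProj :
    ∃ (P : Scheme.{u}) (p : P ⟶ S)
      (chart : ∀ (U : S.Opens) (hU : IsAffineOpen U), (((p ⁻¹ᵁ U : P.Opens) : Scheme.{u}) ≅ Proj (𝒮.deg U hU))),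
      IsRelProj 𝒮 p chart := by
  let D := projGlueData 𝒮
  have hι : ∀ U : S.AffineZariskiSite, IsOpenImmersion (colimit.ι D.functor U) := fun U =>
    D.cover.map_prop U
  have hr : ∀ U : S.AffineZariskiSite, D.toBase ⁻¹ᵁ U.1 = (colimit.ι D.functor U).opensRange := fun U => by
    simpa using! D.toBase_preimage_eq_opensRange_ι U
  let c : ∀ U : S.AffineZariskiSite, ((D.toBase ⁻¹ᵁ U.1 : D.glued.Opens) : Scheme.{u}) ≅ D.functor.obj U :=
    fun U => D.glued.isoOfEq (hr U) ≪≫ (colimit.ι D.functor U).isoOpensRange.symm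
  have hc : ∀ U : S.AffineZariskiSite, (c U).hom ≫ colimit.ι D.functor U = (D.toBase ⁻¹ᵁ U.1).ι := fun U => by
    simp only [c, Iso.trans_hom, Iso.symm_hom, Category.assoc, Scheme.Hom.isoOpensRange_inv_comp,
      Scheme.isoOfEq_hom_ι]
  have hover : ∀ U : S.AffineZariskiSite,
      (c U).hom ≫ D.natTrans.app U ≫ (Scheme.AffineZariskiSite.directedCover S).f U =
        (D.toBase ⁻¹ᵁ U.1).ι ≫ D.toBase := fun U => by
    rw [← hc U, Category.assoc, ← D.ι_toBase U]
  have hres : ∀ (V U : S.AffineZariskiSite) (f : V ⟶ U),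
      D.glued.homOfLE (D.toBase.preimage_mono (Scheme.AffineZariskiSite.toOpens_mono f.le)) ≫ (c U).hom =
        (c V).hom ≫ D.functor.map f := fun V U f => by
    rw [← cancel_mono (colimit.ι D.functor U), Category.assoc, Category.assoc, hc, colimit.w D.functor f, hc,
      Scheme.homOfLE_ι]
  refine ⟨D.glued, D.toBase, fun U hU => c ⟨U, hU⟩, fun U hU => ?_, fun U hU r => ?_⟩
  · exact (congrArg ((c ⟨U, hU⟩).hom ≫ ·) (toAffine_ι 𝒮 U hU).symm).trans (hover ⟨U, hU⟩)
  · exact hres ⟨S.basicOpen r, hU.basicOpen r⟩ ⟨U, hU⟩ (homOfLE ⟨r, rfl⟩)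

end Groth.Agent.RelProjLib
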