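import Groth.Agent.RelProjLib.QMap

/-! `Proj` of a homomorphism on one base: properties local on the target, read on the standard charts. -/

noncomputable section

universe u

open CategoryTheory CategoryTheory.Limits AlgebraicGeometry TopologicalSpace Opposite
open scoped HomogeneousIdeal
open RelProj

namespace Groth.Agent.RelProjLib

variable {S : Scheme.{u}} {𝒜 ℬ : QCGrAlg S} (u : QGrHom (𝟙 S) 𝒜 ℬ)
  {PA PB : Scheme.{u}} {pA : PA ⟶ S} {pB : PB ⟶ S}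
  {chartA : ∀ (U : S.Opens) (hU : IsAffineOpen U), (((pA ⁻¹ᵁ U : PA.Opens) : Scheme.{u}) ≅ Proj (𝒜.deg U hU))}
  {chartB : ∀ (U : S.Opens) (hU : IsAffineOpen U), (((pB ⁻¹ᵁ U : PB.Opens) : Scheme.{u}) ≅ Proj (ℬ.deg U hU))}

lemma comp_of_isProjQMap (hA : IsRelProj 𝒜 pA chartA) (hB : IsRelProj ℬ pB chartB) {h : PB ⟶ PA}
    (hh : IsProjQMap u pA chartA pB chartB h) : h ≫ pA = pB := by
  have hι : IsIso (domQ u pB chartB).ι := by rw [hh.1, ← Scheme.topIso_hom]; infer_instance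
  rw [← cancel_epi (domQ u pB chartB).ι, ← Category.assoc,
    comp_of_isProjQMapOn u pA pB hA hB (isProjQMapOn_of_isProjQMap u pA pB hh), Category.comp_id]

lemma qmap_property (P' : MorphismProperty Scheme.{u}) [IsZariskiLocalAtTarget P']
    (hA : IsRelProj 𝒜 pA chartA) (hB : IsRelProj ℬ pB chartB) {h : PB ⟶ PA}
    (hh : IsProjQMap u pA chartA pB chartB h)
    (H : ∀ (U : S.Opens) (hU : IsAffineOpen U) (hle : U ≤ (𝟙 S : S ⟶ S) ⁻¹ᵁ U) (d : ℕ) (_ : 0 < d)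
      (f : 𝒜.presheaf.obj (op U)) (_ : f ∈ 𝒜.deg U hU d),
      P' (Spec.map (CommRingCat.ofHom (HomogeneousLocalization.Away.map (u.gradedAt U hU U hU hle) f)))) :
    P' h := by
  let 𝒰 : PA.OpenCover := Scheme.Cover.mkOfCovers
    (Σ U : {U : S.Opens // IsAffineOpen U}, {q : ℕ × 𝒜.presheaf.obj (op U.1) // 0 < q.1 ∧ q.2 ∈ 𝒜.deg U.1 U.2 q.1})
    (fun j => Spec (.of (HomogeneousLocalization.Away (𝒜.deg j.1.1 j.1.2) j.2.1.2)))
    (fun j => Proj.awayι (𝒜.deg j.1.1 j.1.2) j.2.1.2 j.2.2.2 j.2.2.1 ≫ emb pA chartA j.1.1 j.1.2)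
    (fun x => by
      obtain ⟨U, hU, y, rfl⟩ := exists_emb_apply_eq (p := pA) (chart := chartA) x
      obtain ⟨s, hs⟩ := Opens.mem_iSup.1 (((Proj.affineOpenCover (𝒜.deg U hU)).openCover.iSup_opensRange).ge
        (Set.mem_univ y))
      obtain ⟨z, hz⟩ := (Proj.opensRange_awayι (𝒜.deg U hU) (s.2 : 𝒜.presheaf.obj (op U)) s.2.2 s.1.2).ge
        ((Proj.opensRange_awayι (𝒜.deg U hU) (s.2 : 𝒜.presheaf.obj (op U)) s.2.2 s.1.2).le hs)
      exact ⟨⟨⟨U, hU⟩, ⟨(s.1.1, s.2.1), s.1.2, s.2.2⟩⟩, z, (Scheme.Hom.comp_apply _ _ z).trans (congrArg (emb pA chartA U hU) hz)⟩)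
  refine (IsZariskiLocalAtTarget.iff_of_openCover (P := P') 𝒰).2 ?_
  rintro ⟨⟨U, hU⟩, ⟨d, f⟩, hd, hf⟩
  have hle : U ≤ (𝟙 S : S ⟶ S) ⁻¹ᵁ U := le_refl U
  let a := Proj.awayι (𝒜.deg U hU) f hf hd ≫ emb pA chartA U hU
  let e := awayEmb u pB chartB U hU U hU hle hd f hf
  have : IsOpenImmersion e := isOpenImmersion_e u pB chartB ⟨U, hU, U, hU, hle, d, hd, f, hf⟩
  have hcomm := hh.2 U hU U hU hle d hd f hf
  have hrange : h ⁻¹ᵁ a.opensRange = e.opensRange := by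
    apply le_antisymm
    · intro x hx
      obtain ⟨w, hw⟩ := hx
      have hxU : pB x ∈ U := by
        have hm : a w ∈ (emb pA chartA U hU).opensRange := ⟨_, rfl⟩
        rw [emb_opensRange] at hm
        change pA (a w) ∈ U at hm
        rw [show a w = h x from hw, ← Scheme.Hom.comp_apply, comp_of_isProjQMap u hA hB hh] at hm
        exact hm
      have hxr : x ∈ (emb pB chartB U hU).opensRange := by rw [emb_opensRange]; exact hxU
      obtain ⟨y, rfl⟩ := hxr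
      have hd' : emb pB chartB U hU y ∈ domQ u pB chartB := hh.1.ge (Set.mem_univ _)
      have hy := (mem_image_basicOpen_iff u pA pB hA hB (isProjQMapOn_of_isProjQMap u pA pB hh) hU hU hle hd hf
        y hd').1 ⟨Proj.awayι (𝒜.deg U hU) f hf hd w, (Proj.opensRange_awayι (𝒜.deg U hU) f hf hd).le ⟨w, rfl⟩, hw⟩
      exact (mem_range_e u pB chartB (i := ⟨U, hU, U, hU, hle, d, hd, f, hf⟩)).2 ⟨y, rfl, hy⟩
    · rintro _ ⟨z, rfl⟩
      show h (e z) ∈ a.opensRange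
      rw [← Scheme.Hom.comp_apply, hcomm]
      exact ⟨_, rfl⟩
  have pb := IsOpenImmersion.isPullback _ e a h hcomm hrange
  change P' (pullback.snd h a)
  rw [← pb.flip.isoPullback_inv_snd, MorphismProperty.cancel_left_of_respectsIso P']
  exact H U hU hle d hd f hf

lemma away_map_surjective_of_eventually {A B σ τ : Type u} [CommRing A] [SetLike σ A] [AddSubgroupClass σ A]
    [CommRing B] [SetLike τ B] [AddSubgroupClass τ B] {𝒜 : ℕ → σ} {ℬ : ℕ → τ} [GradedRing 𝒜] [GradedRing ℬ]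
    (ψ : 𝒜 →+*ᵍ ℬ) {n : ℕ} (hn : ∀ k, n ≤ k → ∀ y ∈ ℬ k, ∃ x ∈ 𝒜 k, ψ x = y) {d : ℕ} (hd : 0 < d) {f : A}
    (hf : f ∈ 𝒜 d) : Function.Surjective (HomogeneousLocalization.Away.map ψ f) := by
  intro z
  obtain ⟨m, b, hb, rfl⟩ := HomogeneousLocalization.Away.mk_surjective ℬ (ψ.2 hf) z
  have hb' : b * ψ f ^ n ∈ ℬ ((m + n) • d) := by
    rw [add_smul]
    exact SetLike.mul_mem_graded hb (SetLike.pow_mem_graded n (ψ.2 hf))
  obtain ⟨x, hx, hxb⟩ := hn _ ((Nat.le_add_left n m).trans (Nat.le_mul_of_pos_right _ hd)) _ hb'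
  refine ⟨.mk 𝒜 hf (m + n) x hx, ?_⟩
  rw [HomogeneousLocalization.Away.map_mk]
  apply HomogeneousLocalization.val_injective
  simp only [HomogeneousLocalization.Away.val_mk, hxb, Localization.mk_eq_mk_iff, Localization.r_iff_exists]
  exact ⟨1, by simp; ring⟩

lemma away_map_injective_of_eventually {A B σ τ : Type u} [CommRing A] [SetLike σ A] [AddSubgroupClass σ A]
    [CommRing B] [SetLike τ B] [AddSubgroupClass τ B] {𝒜 : ℕ → σ} {ℬ : ℕ → τ} [GradedRing 𝒜] [GradedRing ℬ]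
    (ψ : 𝒜 →+*ᵍ ℬ) {n : ℕ} (hn : ∀ k, n ≤ k → ∀ x ∈ 𝒜 k, ψ x = 0 → x = 0) {d : ℕ} (hd : 0 < d) {f : A}
    (hf : f ∈ 𝒜 d) : Function.Injective (HomogeneousLocalization.Away.map ψ f) := by
  rw [injective_iff_map_eq_zero]
  intro z hz
  obtain ⟨m, a, ha, rfl⟩ := HomogeneousLocalization.Away.mk_surjective 𝒜 hf z
  rw [HomogeneousLocalization.Away.map_mk] at hz
  have h1 := congrArg HomogeneousLocalization.val hz
  rw [HomogeneousLocalization.Away.val_mk, HomogeneousLocalization.val_zero, ← Localization.mk_zero 1,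
    Localization.mk_eq_mk_iff, Localization.r_iff_exists] at h1
  obtain ⟨⟨_, k, rfl⟩, hk⟩ := h1
  have hk' : ψ f ^ k * ψ a = 0 := by simpa using hk
  have hmem : f ^ (k + n) * a ∈ 𝒜 ((k + n) • d + m • d) := SetLike.mul_mem_graded (SetLike.pow_mem_graded _ hf) ha
  have h0 : f ^ (k + n) * a = 0 := by
    refine hn _ (le_add_right ((Nat.le_add_left n k).trans (Nat.le_mul_of_pos_right _ hd))) _ hmem ?_
    rw [map_mul, map_pow, pow_add, mul_right_comm, hk', zero_mul]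
  apply HomogeneousLocalization.val_injective
  rw [HomogeneousLocalization.Away.val_mk, HomogeneousLocalization.val_zero, ← Localization.mk_zero 1,
    Localization.mk_eq_mk_iff, Localization.r_iff_exists]
  exact ⟨⟨f ^ (k + n), k + n, rfl⟩, by simpa using h0⟩

lemma domQ_eq_top_of_eventually_surjective (pB : PB ⟶ S)
    (chartB : ∀ (U : S.Opens) (hU : IsAffineOpen U), (((pB ⁻¹ᵁ U : PB.Opens) : Scheme.{u}) ≅ Proj (ℬ.deg U hU)))
    {n : ℕ} (hn : ∀ (U : S.Opens) (hU : IsAffineOpen U) (hle : U ≤ (𝟙 S : S ⟶ S) ⁻¹ᵁ U) (k : ℕ), n ≤ k →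
      ∀ y ∈ ℬ.deg U hU k, ∃ x ∈ 𝒜.deg U hU k, u.gradedAt U hU U hU hle x = y) :
    domQ u pB chartB = ⊤ := by
  rw [eq_top_iff]
  intro x _
  obtain ⟨U, hU, y, rfl⟩ := exists_emb_apply_eq (p := pB) (chart := chartB) x
  have hle : U ≤ (𝟙 S : S ⟶ S) ⁻¹ᵁ U := le_refl U
  refine Opens.mem_iSup.2 ⟨⟨(⟨U, hU⟩, ⟨U, hU⟩), hle⟩, y, (RelCone.mem_domOpen _ _).2 ?_, rfl⟩
  by_contra hne
  push Not at hne
  refine y.not_irrelevant_le ((HomogeneousIdeal.irrelevant_le _).2 fun i hi b hb => ?_)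
  have hm : b ^ (n + 1) ∈ ℬ.deg U hU ((n + 1) • i) := SetLike.pow_mem_graded (A := ℬ.deg U hU) (n + 1) hb
  have hle' : n ≤ (n + 1) • i := (Nat.le_succ n).trans (Nat.le_mul_of_pos_right _ hi)
  obtain ⟨a, ha, hab⟩ := hn U hU hle _ hle' _ hm
  refine y.isPrime.mem_of_pow_mem (n + 1) ?_
  rw [← hab]
  exact hne a (HomogeneousIdeal.mem_irrelevant_of_mem _ (Nat.mul_pos (Nat.succ_pos n) hi) ha)

end Groth.Agent.RelProjLib
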