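import Groth.Agent.RelProjLib.ImmCrit
import Groth.Agent.Props.GenExt
import Groth.Agent.Props.GenLocus
import Groth.Agent.Props.AmpleBase

/-!
# `r_{L,σ}` for an ample `L` and the full ring of sections

If `u` is bijective on global sections, the sections `f` of the powers of `L` lift to homogeneous elements, and
the extension lemma for functions on `X_f` gives conditions (iii) and (iv) of the immersion criteria.
-/

noncomputable section

universe u

open CategoryTheory CategoryTheory.Limits AlgebraicGeometry TopologicalSpace Opposite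
open RelProj
open Groth.Agent.Props.GenLocus Groth.Agent.Props.GenProd Groth.Agent.Props.GenExt

namespace Groth.Agent.RelProjLib.AmpleImm

variable {X Y : Scheme.{u}} {q : X ⟶ Y} {𝒮 : QCGrAlg Y} {𝒮L : QCGrAlg X} (u : QGrHom q 𝒮 𝒮L)
  {L : X.Modules} [L.IsQuasicoherent] {j : L ⟶ 𝒮L.toModule} (hj : IsGrSymAlg L 𝒮L j)

/-- Restriction in `𝒮L`. -/
abbrev rh (𝒮L : QCGrAlg X) {W W' : X.Opens} (h : W' ≤ W) :
    (𝒮L.presheaf.obj (op W) : Type u) →+* (𝒮L.presheaf.obj (op W') : Type u) :=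
  (𝒮L.presheaf.map (homOfLE h).op).hom

lemma rh_rh {W W' W'' : X.Opens} (h : W' ≤ W) (h' : W'' ≤ W') (b : 𝒮L.presheaf.obj (op W)) :
    rh 𝒮L h' (rh 𝒮L h b) = rh 𝒮L (h'.trans h) b := by
  rw [← RingHom.comp_apply, rh, rh, rh, ← CommRingCat.hom_comp, ← Functor.map_comp]
  rfl

lemma rh_str {W W' : X.Opens} (h : W' ≤ W) (c : Γ(X, W)) :
    rh 𝒮L h ((𝒮L.str.app (op W)).hom c) = (𝒮L.str.app (op W')).hom (QCoh.rres h c) :=
  congr($(𝒮L.str.naturality (homOfLE h).op).hom c).symm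

lemma eq_of_locally {ι : Type*} {U : ι → X.Opens} {V : X.Opens} (h : ∀ i, U i ≤ V) (hV : V ≤ ⨆ i, U i)
    {b b' : 𝒮L.presheaf.obj (op V)} (hb : ∀ i, rh 𝒮L (h i) b = rh 𝒮L (h i) b') : b = b' :=
  QCoh.eq_of_locally_eq 𝒮L.toModule h hV b b' hb

lemma exists_glue' {ι : Type*} {U : ι → X.Opens} {V : X.Opens} (h : ∀ i, U i ≤ V) (hV : V ≤ ⨆ i, U i)
    (b : ∀ i, 𝒮L.presheaf.obj (op (U i)))
    (hb : ∀ i k, rh 𝒮L (inf_le_left : U i ⊓ U k ≤ U i) (b i) = rh 𝒮L (inf_le_right : U i ⊓ U k ≤ U k) (b k)) :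
    ∃ s : 𝒮L.presheaf.obj (op V), ∀ i, rh 𝒮L (h i) s = b i :=
  QCoh.exists_glue 𝒮L.toModule h hV b hb

/-- A frame as a family. -/
lemma isFrame {U₀ : X.Opens} {e : Γ(L, U₀)} (he : IsGen L U₀ e) : LFFrame.IsFrame L U₀ (fun _ : Fin 1 => e) :=
  (isGen_iff_isFrame e).1 he

/-- The degree-one generator over `W`. -/
def gen {U₀ : X.Opens} (e : Γ(L, U₀)) (j : L ⟶ 𝒮L.toModule) {W : X.Opens} (h : W ≤ U₀) :
    (𝒮L.presheaf.obj (op W) : Type u) := j.app W (QCoh.res L h e)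

lemma rh_gen {U₀ : X.Opens} (e : Γ(L, U₀)) {W W' : X.Opens} (h : W ≤ U₀) (h' : W' ≤ W) :
    rh 𝒮L h' (gen e j h) = gen e j (h'.trans h) := by
  unfold gen
  rw [← QCoh.res_res L h h']
  exact (QCoh.app_res j h' _).symm

include hj in
lemma gen_mem {U₀ : X.Opens} (e : Γ(L, U₀)) {W : X.Opens} (hW : IsAffineOpen W) (h : W ≤ U₀) :
    gen e j h ∈ 𝒮L.deg W hW 1 := hj.2 W hW _

include hj in
lemma existsUnique_gen {U₀ : X.Opens} {e : Γ(L, U₀)} (he : IsGen L U₀ e) {W : X.Opens} (hW : IsAffineOpen W)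
    (h : W ≤ U₀) {d : ℕ} {b : 𝒮L.presheaf.obj (op W)} (hb : b ∈ 𝒮L.deg W hW d) :
    ∃! c : Γ(X, W), b = (𝒮L.str.app (op W)).hom c * gen e j h ^ d :=
  SymLib.existsUnique_genOne hj hW (isFrame he) h hb

include hj in
lemma str_mul_gen_mem {U₀ : X.Opens} (e : Γ(L, U₀)) {W : X.Opens} (hW : IsAffineOpen W) (h : W ≤ U₀)
    (c : Γ(X, W)) (d : ℕ) : (𝒮L.str.app (op W)).hom c * gen e j h ^ d ∈ 𝒮L.deg W hW d := by
  have := SetLike.mul_mem_graded (A := 𝒮L.deg W hW) (𝒮L.str_mem W hW c)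
    (SetLike.pow_mem_graded (A := 𝒮L.deg W hW) d (gen_mem hj e hW h))
  rwa [smul_eq_mul, mul_one, zero_add] at this

variable (hY : IsAffineOpen (⊤ : Y.Opens))

lemma uTop_mem {d : ℕ} {s : 𝒮.presheaf.obj (op (⊤ : Y.Opens))} (hs : s ∈ 𝒮.deg ⊤ hY d) {W : X.Opens}
    (hW : IsAffineOpen W) : uTop u W s ∈ 𝒮L.deg W hW d :=
  u.map_mem ⊤ hY W hW (le_top.trans (Scheme.Hom.preimage_top q).ge) hs

include hj in
/-- On a frame, `X_{u s}` is the non-vanishing locus of the coefficient. -/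
lemma Xs_inf {U₀ : X.Opens} {e : Γ(L, U₀)} (he : IsGen L U₀ e) {W : X.Opens} (hW : IsAffineOpen W) (h : W ≤ U₀)
    {d : ℕ} (s : 𝒮.presheaf.obj (op (⊤ : Y.Opens))) {c : Γ(X, W)}
    (hc : uTop u W s = (𝒮L.str.app (op W)).hom c * gen e j h ^ d) :
    Xs u d s ⊓ W = X.basicOpen c := by
  refine le_antisymm (fun x hx' => ?_) (le_inf ?_ (X.basicOpen_le c))
  · obtain ⟨hx, hxW⟩ := hx'
    obtain ⟨⟨⟨D, hD⟩, hsub⟩, hxD⟩ := Opens.mem_iSup.1 hx
    obtain ⟨f, hf, hxf⟩ := hD.exists_basicOpen_le (V := W) ⟨x, hxW⟩ hxD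
    set W' := X.basicOpen f
    have hW' : IsAffineOpen W' := hD.basicOpen f
    obtain ⟨a, ha⟩ := Ideal.mem_span_singleton'.1 (deg_subset_span_basicOpen u s hD hsub f
      (show gen e j (hf.trans h) ^ d ∈ 𝒮L.deg W' hW' d by simpa using str_mul_gen_mem hj e hW' (hf.trans h) 1 d))
    have hu : uTop u W' s = (𝒮L.str.app (op W')).hom (QCoh.rres hf c) * gen e j (hf.trans h) ^ d := by
      rw [← uTop_res u hf s, hc]
      exact (map_mul (rh 𝒮L hf) _ _).trans (by rw [rh_str, map_pow, rh_gen])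
    have h0 : (DirectSum.decompose (𝒮L.deg W' hW') a 0 : _).1 * uTop u W' s = gen e j (hf.trans h) ^ d := by
      have hm : uTop u W' s ∈ 𝒮L.deg W' hW' d := hu ▸ str_mul_gen_mem hj e hW' (hf.trans h) _ d
      have := congrArg (fun b => ((DirectSum.decompose (𝒮L.deg W' hW') b d : _).1 : 𝒮L.presheaf.obj (op W'))) ha
      simp only at this
      rw [DirectSum.coe_decompose_mul_of_right_mem_of_le _ hm le_rfl, Nat.sub_self] at this
      rw [this]
      exact DirectSum.decompose_of_mem_same _ (by simpa using str_mul_gen_mem hj e hW' (hf.trans h) 1 d)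
    obtain ⟨r, hr, -⟩ := existsUnique_gen hj he hW' (hf.trans h) (SetLike.coe_mem (DirectSum.decompose (𝒮L.deg W' hW') a 0))
    rw [pow_zero, mul_one] at hr
    have h1 : r * QCoh.rres hf c = 1 := by
      obtain ⟨_, -, huniq⟩ := existsUnique_gen hj he hW' (hf.trans h)
        (show gen e j (hf.trans h) ^ d ∈ 𝒮L.deg W' hW' d by simpa using str_mul_gen_mem hj e hW' (hf.trans h) 1 d)
      refine ((huniq _ ?_).trans (huniq 1 (by simp)).symm)
      beta_reduce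
      rw [map_mul, ← hr, mul_assoc, ← hu, h0]
    have := (X.mem_basicOpen c x (hf hxf)).2 ?_
    · exact this
    · have hu' := IsUnit.of_mul_eq_one _ ((mul_comm _ r).trans h1)
      have := hu'.map (X.presheaf.germ W' x hxf).hom
      rwa [QCoh.rres, X.presheaf.germ_res_apply] at this
  · obtain ⟨v, hv⟩ : ∃ v : Γ(X, X.basicOpen c), QCoh.rres (X.basicOpen_le c) c * v = 1 :=
      isUnit_iff_exists_inv.1 (RingedSpace.isUnit_res_basicOpen _ c)
    intro x hx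
    refine Opens.mem_iSup.2 ⟨⟨⟨X.basicOpen c, hW.basicOpen c⟩, fun b hb => ?_⟩, hx⟩
    obtain ⟨a, ha, -⟩ := existsUnique_gen hj he (hW.basicOpen c) ((X.basicOpen_le c).trans h) hb
    refine Ideal.mem_span_singleton'.2 ⟨(𝒮L.str.app (op (X.basicOpen c))).hom (a * v), ?_⟩
    rw [← uTop_res u (X.basicOpen_le c) s, hc]
    change _ * rh 𝒮L (X.basicOpen_le c) _ = _
    rw [map_mul (rh 𝒮L _), rh_str, map_pow, rh_gen, ← mul_assoc, ← map_mul, mul_assoc a, mul_comm v, hv, mul_one]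
    exact ha.symm

include hj hY in
/-- What dies on `X_{u s}` is killed by a power of `u s`. -/
lemma exists_kill {U₀ : X.Opens} {e : Γ(L, U₀)} (he : IsGen L U₀ e) {W : X.Opens} (hW : IsAffineOpen W)
    (h : W ≤ U₀) {d n : ℕ} {s : 𝒮.presheaf.obj (op (⊤ : Y.Opens))} (hs : s ∈ 𝒮.deg ⊤ hY d)
    {δ : 𝒮L.presheaf.obj (op W)} (hδ : δ ∈ 𝒮L.deg W hW n)
    (h0 : rh 𝒮L (inf_le_right : Xs u d s ⊓ W ≤ W) δ = 0) :
    ∃ k : ℕ, ∀ l, k ≤ l → uTop u W s ^ l * δ = 0 := by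
  obtain ⟨c, hc, -⟩ := existsUnique_gen hj he hW h (uTop_mem u hY hs hW)
  obtain ⟨c', hc', -⟩ := existsUnique_gen hj he hW h hδ
  have hle : X.basicOpen c ≤ Xs u d s ⊓ W := (Xs_inf u hj he hW h s hc).ge
  have h1 : rh 𝒮L (X.basicOpen_le c) δ = 0 := by
    rw [← rh_rh inf_le_right hle, h0, map_zero]
  rw [hc', map_mul, rh_str, map_pow, rh_gen] at h1
  have h2 : QCoh.rres (X.basicOpen_le c) c' = 0 := by
    obtain ⟨_, -, huniq⟩ := existsUnique_gen hj he (hW.basicOpen c) ((X.basicOpen_le c).trans h)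
      (zero_mem (𝒮L.deg (X.basicOpen c) (hW.basicOpen c) n))
    exact (huniq _ h1.symm).trans (huniq 0 (by simp)).symm
  have := hW.isLocalization_basicOpen c
  obtain ⟨⟨_, k, rfl⟩, hk⟩ := (IsLocalization.map_eq_zero_iff (Submonoid.powers c) Γ(X, X.basicOpen c) c').1 h2
  refine ⟨k, fun l hl => ?_⟩
  obtain ⟨i, rfl⟩ := Nat.exists_eq_add_of_le hl
  simp only at hk
  rw [hc, hc', mul_pow, ← map_pow, mul_mul_mul_comm, ← map_mul, pow_add, mul_right_comm, hk, zero_mul,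
    map_zero, zero_mul]

variable (hu : Function.Bijective (u.app ⊤).hom)

include hu in
lemma bijective_uTop : Function.Bijective (uTop u (⊤ : X.Opens)) := by
  constructor
  · intro a b hab
    refine hu.1 ?_
    refine eq_of_locally (ι := PUnit.{1}) (U := fun _ => ⊤) (fun _ => (Scheme.Hom.preimage_top q).ge)
      (le_top.trans (le_iSup_of_le PUnit.unit.{1} le_rfl)) fun _ => ?_
    exact hab
  · intro b
    obtain ⟨a, ha⟩ := hu.2 (rh 𝒮L (le_top : q ⁻¹ᵁ (⊤ : Y.Opens) ≤ ⊤) b)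
    refine ⟨a, ?_⟩
    change rh 𝒮L (Scheme.Hom.preimage_top q).ge ((u.app ⊤).hom a) = b
    rw [ha, rh_rh]
    exact congr($(𝒮L.presheaf.map_id _).hom b)

include hu in
/-- A global element homogeneous of degree `K` on a cover comes from `𝒮` in degree `K`. -/
lemma exists_lift {ι : Type*} (W : ι → X.Opens) (hW : ∀ i, IsAffineOpen (W i)) (hcov : ⊤ ≤ iSup W) {K : ℕ}
    (b : 𝒮L.presheaf.obj (op (⊤ : X.Opens))) (hb : ∀ i, rh 𝒮L (le_top : W i ≤ ⊤) b ∈ 𝒮L.deg (W i) (hW i) K) :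
    ∃ a ∈ 𝒮.deg ⊤ hY K, uTop u ⊤ a = b := by
  obtain ⟨a, ha⟩ := (bijective_uTop u hu).2 b
  refine ⟨_, SetLike.coe_mem (DirectSum.decompose (𝒮.deg ⊤ hY) a K), ?_⟩
  refine eq_of_locally (fun i => (le_top : W i ≤ ⊤)) hcov fun i => ?_
  have hres : ∀ z, rh 𝒮L (le_top : W i ≤ ⊤) (uTop u ⊤ z) = uTop u (W i) z := uTop_res u le_top
  rw [hres]
  have hi := hb i
  rw [← ha, hres] at hi
  exact (_root_.map_directSumDecompose (𝒮.deg ⊤ hY) (𝒮L.deg (W i) (hW i))
    (u.gradedAt ⊤ hY (W i) (hW i) (le_top.trans (Scheme.Hom.preimage_top q).ge)) (x := a) (i := K)).trans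
      ((DirectSum.decompose_of_mem_same _ hi).trans ((hres a).symm.trans (congrArg _ ha)))

include hj hu in
/-- A section of a power of `L` gives a homogeneous element with the same locus. -/
lemma exists_of_tensorPow (hL : PicF.IsInvertible L) {K : ℕ}
    (s : Coh.structureModule X ⟶ CohB1.tensorPow L K) :
    ∃ a ∈ 𝒮.deg ⊤ hY K, Xs u K a = CohB1.genLocus _ s := by
  have key : ∀ x : X, ∃ (W : X.Opens) (e : Γ(L, W)), x ∈ W ∧ IsAffineOpen W ∧ IsGen L W e := by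
    intro x
    obtain ⟨U, e, hxU, he⟩ := exists_isGen hL x
    obtain ⟨W, hW, hxW, hWU⟩ := exists_isAffineOpen_mem_and_subset (U := U) (x := x) hxU
    exact ⟨W, QCoh.res L hWU e, hxW, hW, he.restrict hWU⟩
  choose W e hxW hW he using key
  have hcov : ⊤ ≤ iSup W := fun x _ => Opens.mem_iSup.2 ⟨x, hxW x⟩
  let c := fun i => co K (sec s ⊤) le_top (he i)
  obtain ⟨b, hb⟩ := exists_glue' (fun i => (le_top : W i ≤ ⊤)) hcov
    (fun i => (𝒮L.str.app (op (W i))).hom (c i) * gen (e i) j le_rfl ^ K) fun i k => by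
      obtain ⟨v, -, hv⟩ := exists_unit_smul ((he i).restrict (inf_le_left : W i ⊓ W k ≤ W i))
        ((he k).restrict (inf_le_right : W i ⊓ W k ≤ W k))
      rw [map_mul, map_mul, rh_str, rh_str, map_pow, map_pow, rh_gen, rh_gen, co_res, co_res,
        co_of_eq_smul (sec s ⊤) le_top ((he i).restrict inf_le_left) ((he k).restrict inf_le_right) hv,
        show gen (e k) j (inf_le_right.trans le_rfl) =
          (𝒮L.str.app (op (W i ⊓ W k))).hom v * gen (e i) j (inf_le_left.trans le_rfl) from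
          (congrArg (j.app _) hv).trans (j.app_smul v _),
        mul_pow, map_mul, map_pow]
      ring
  obtain ⟨a, ha, hab⟩ := exists_lift u hY hu W hW hcov b (fun i => hb i ▸ str_mul_gen_mem hj _ (hW i) le_rfl _ K)
  refine ⟨a, ha, ?_⟩
  ext x
  have h1 := Xs_inf u hj (he x) (hW x) le_rfl a (d := K) (c := c x)
    (by rw [← uTop_res u (le_top : W x ≤ ⊤), hab]; exact hb x)
  have h2 := genLocus_inf_eq (he x) s
  constructor
  · intro h
    exact ((h1.trans h2.symm).le ⟨h, hxW x⟩).1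
  · intro h
    exact ((h2.trans h1.symm).le ⟨h, hxW x⟩).1

include hj hu in
/-- Condition (iv). -/
lemma cond_inj (hL : PicF.IsInvertible L) [CompactSpace X] {d : ℕ} {s : 𝒮.presheaf.obj (op (⊤ : Y.Opens))}
    (hs : s ∈ 𝒮.deg ⊤ hY d) {n : ℕ} {a : 𝒮.presheaf.obj (op (⊤ : Y.Opens))} (ha : a ∈ 𝒮.deg ⊤ hY n)
    (h0 : uTop u (Xs u d s) a = 0) : ∃ k : ℕ, 0 < k ∧ s ^ k * a = 0 := by
  have key : ∀ x : X, ∃ (W : X.Opens) (_ : x ∈ W) (k : ℕ), ∀ l, k ≤ l → uTop u W (s ^ l * a) = 0 := by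
    intro x
    obtain ⟨U, e, hxU, he⟩ := exists_isGen hL x
    obtain ⟨W, hW, hxW, hWU⟩ := exists_isAffineOpen_mem_and_subset (U := U) (x := x) hxU
    obtain ⟨k, hk⟩ := exists_kill u hj hY he hW hWU hs (uTop_mem u hY ha hW) (by
      change (𝒮L.presheaf.map _).hom _ = 0
      rw [uTop_res, ← uTop_res u (inf_le_left : Xs u d s ⊓ W ≤ Xs u d s), h0, map_zero])
    exact ⟨W, hxW, k, fun l hl => by rw [map_mul, map_pow]; exact hk l hl⟩
  choose W hxW k hk using key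
  obtain ⟨t, ht⟩ := isCompact_univ.elim_finite_subcover (fun x => (W x : Set X)) (fun x => (W x).2)
    fun x _ => Set.mem_iUnion.2 ⟨x, hxW x⟩
  refine ⟨t.sup k + 1, Nat.succ_pos _, (bijective_uTop u hu).1 ?_⟩
  rw [map_zero (uTop u ⊤)]
  refine eq_of_locally (U := fun i : t => W i) (fun _ => le_top) (fun x _ => ?_) fun i => ?_
  · obtain ⟨i, hi, hxi⟩ := Set.mem_iUnion₂.1 (ht (Set.mem_univ x))
    exact Opens.mem_iSup.2 ⟨⟨i, hi⟩, hxi⟩
  · rw [map_zero]
    exact (uTop_res u le_top _).trans (hk i _ ((Finset.le_sup i.2).trans (Nat.le_succ _)))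

include hj hu in
/-- Condition (iii). -/
lemma cond_surj (hL : PicF.IsInvertible L) [CompactSpace X] [QuasiSeparatedSpace X] {d : ℕ}
    {s : 𝒮.presheaf.obj (op (⊤ : Y.Opens))} (hs : s ∈ 𝒮.deg ⊤ hY d) (t : X.presheaf.obj (op (Xs u d s))) :
    ∃ (m : ℕ) (_ : 0 < m) (a : 𝒮.presheaf.obj (op (⊤ : Y.Opens))) (_ : a ∈ 𝒮.deg ⊤ hY (m * d)),
      (𝒮L.str.app (op (Xs u d s))).hom t * (uTop u (Xs u d s) s) ^ m = uTop u (Xs u d s) a := by
  have key : ∀ x : X, ∃ (W : X.Opens) (e : Γ(L, W)) (_ : IsAffineOpen W) (_ : IsGen L W e) (_ : x ∈ W) (k : ℕ),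
      ∀ l, k ≤ l → ∃ b ∈ (show Set (𝒮L.presheaf.obj (op W) : Type u) from
          {b | ∃ hW : IsAffineOpen W, b ∈ 𝒮L.deg W hW (l * d)}),
        rh 𝒮L (inf_le_right : Xs u d s ⊓ W ≤ W) b =
          (𝒮L.str.app (op (Xs u d s ⊓ W))).hom (QCoh.rres inf_le_left t) * uTop u (Xs u d s ⊓ W) s ^ l := by
    intro x
    obtain ⟨U, e, hxU, he⟩ := exists_isGen hL x
    obtain ⟨W, hW, hxW, hWU⟩ := exists_isAffineOpen_mem_and_subset (U := U) (x := x) hxU
    obtain ⟨c, hc, -⟩ := existsUnique_gen hj he hW hWU (uTop_mem u hY hs hW)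
    have hX := Xs_inf u hj he hW hWU s hc
    have := hW.isLocalization_of_eq_basicOpen c (homOfLE (inf_le_right : Xs u d s ⊓ W ≤ W)) hX
    let := (X.presheaf.map (homOfLE (inf_le_right : Xs u d s ⊓ W ≤ W)).op).hom.toAlgebra
    obtain ⟨⟨a, ⟨_, k, rfl⟩⟩, hk⟩ := IsLocalization.surj (Submonoid.powers c)
      (QCoh.rres (inf_le_left : Xs u d s ⊓ W ≤ Xs u d s) t)
    refine ⟨W, QCoh.res L hWU e, hW, he.restrict hWU, hxW, k, fun l hl => ⟨(𝒮L.str.app (op W)).hom (c ^ (l - k) * a) *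
      gen e j hWU ^ (l * d), ⟨hW, str_mul_gen_mem hj e hW hWU _ _⟩, ?_⟩⟩
    rw [← uTop_res u (inf_le_right : Xs u d s ⊓ W ≤ W) s, hc]
    change _ = _ * rh 𝒮L _ _ ^ l
    rw [map_mul, map_mul (rh 𝒮L _), rh_str, rh_str, map_pow, map_pow (rh 𝒮L _), rh_gen, mul_pow, ← map_pow,
      ← pow_mul, mul_comm d l, ← mul_assoc, ← map_mul]
    congr 2
    change QCoh.rres _ _ = _
    have hk' : QCoh.rres (inf_le_left : Xs u d s ⊓ W ≤ Xs u d s) t * QCoh.rres inf_le_right (c ^ k) =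
        QCoh.rres inf_le_right a := hk
    rw [map_mul, ← hk', map_pow, map_pow, mul_left_comm, ← pow_add, Nat.sub_add_cancel hl]
  choose W e hW he hxW k hk using key
  obtain ⟨F, hF⟩ := isCompact_univ.elim_finite_subcover (fun x => (W x : Set X)) (fun x => (W x).2)
    fun x _ => Set.mem_iUnion.2 ⟨x, hxW x⟩
  have hcov : ⊤ ≤ ⨆ i : F, W i := fun x _ => by
    obtain ⟨i, hi, hxi⟩ := Set.mem_iUnion₂.1 (hF (Set.mem_univ x))
    exact Opens.mem_iSup.2 ⟨⟨i, hi⟩, hxi⟩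
  let l₀ := F.sup k
  choose b hbm hb using fun i : F => hk i l₀ (Finset.le_sup i.2)
  replace hbm : ∀ i : F, b i ∈ 𝒮L.deg (W i) (hW i) (l₀ * d) := fun i => (hbm i).2
  -- the differences are killed by a power of `s`
  have key2 : ∀ i i' : F, ∃ k : ℕ, ∀ l, k ≤ l →
      rh 𝒮L (inf_le_left : W i ⊓ W i' ≤ W i) (uTop u (W i) (s ^ l) * b i) =
        rh 𝒮L (inf_le_right : W i ⊓ W i' ≤ W i') (uTop u (W i') (s ^ l) * b i') := by
    intro i i'
    have hqc : IsCompact ((W i : Set X) ∩ W i') :=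
      QuasiSeparatedSpace.inter_isCompact _ _ (W i).2 (hW i).isCompact (W i').2 (hW i').isCompact
    have : ∀ x : ↥(W i ⊓ W i'), ∃ (D : X.Opens) (hD : D ≤ W i ⊓ W i') (_ : x.1 ∈ D) (k : ℕ), ∀ l, k ≤ l →
        rh 𝒮L (hD.trans inf_le_left) (uTop u (W i) (s ^ l) * b i) =
          rh 𝒮L (hD.trans inf_le_right) (uTop u (W i') (s ^ l) * b i') := by
      intro x
      obtain ⟨D, hD, hxD, hle⟩ := exists_isAffineOpen_mem_and_subset (U := W i ⊓ W i') (x := x.1) x.2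
      obtain ⟨k', hk'⟩ := exists_kill u hj hY (he i) hD (hle.trans inf_le_left) hs
        (sub_mem (𝒮L.map_mem (hW i) hD (hle.trans inf_le_left) (hbm i))
          (𝒮L.map_mem (hW i') hD (hle.trans inf_le_right) (hbm i'))) (by
          change rh 𝒮L _ (rh 𝒮L _ _ - rh 𝒮L _ _) = 0
          rw [map_sub, rh_rh, rh_rh,
            ← rh_rh (inf_le_right : Xs u d s ⊓ W i ≤ W i) (inf_le_inf_left _ (hle.trans inf_le_left)),
            ← rh_rh (inf_le_right : Xs u d s ⊓ W i' ≤ W i') (inf_le_inf_left _ (hle.trans inf_le_right)),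
            hb i, hb i', map_mul, map_mul, rh_str, rh_str, map_pow, map_pow, sub_eq_zero]
          congr 2
          · exact (QCoh.rres_rres _ _ _).trans (QCoh.rres_rres _ _ _).symm
          · exact (uTop_res u _ s).trans (uTop_res u _ s).symm)
      refine ⟨D, hle, hxD, k', fun l hl => ?_⟩
      rw [map_mul, map_mul, ← sub_eq_zero]
      change (𝒮L.presheaf.map _).hom _ * _ - (𝒮L.presheaf.map _).hom _ * _ = _
      rw [uTop_res, uTop_res, ← mul_sub, map_pow]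
      exact hk' l hl
    choose D hD hxD k' hk' using this
    obtain ⟨G, hG⟩ := hqc.elim_finite_subcover (fun x => (D x : Set X)) (fun x => (D x).2)
      fun x hx => Set.mem_iUnion.2 ⟨⟨x, hx⟩, hxD ⟨x, hx⟩⟩
    refine ⟨G.sup k', fun l hl => eq_of_locally (U := fun z : G => D z) (fun z => hD z) (fun x hx => ?_)
      fun z => ?_⟩
    · obtain ⟨z, hz, hxz⟩ := Set.mem_iUnion₂.1 (hG hx)
      exact Opens.mem_iSup.2 ⟨⟨z, hz⟩, hxz⟩
    · rw [rh_rh, rh_rh]
      exact hk' z l ((Finset.le_sup z.2).trans hl)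
  choose k2 hk2 using key2
  let l₁ := (Finset.univ.sup fun p : F × F => k2 p.1 p.2) + 1
  obtain ⟨b', hb'⟩ := exists_glue' (fun i : F => (le_top : W i ≤ ⊤)) hcov
    (fun i => uTop u (W i) (s ^ l₁) * b i) fun i i' =>
      hk2 i i' l₁ ((Finset.le_sup (f := fun p : F × F => k2 p.1 p.2) (Finset.mem_univ (i, i'))).trans (Nat.le_succ _))
  have hsm := SetLike.pow_mem_graded (A := 𝒮.deg ⊤ hY) l₁ hs
  obtain ⟨a, ha, hab⟩ := exists_lift u hY hu (fun i : F => W i) (fun i => hW i) hcov b' fun i => by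
    rw [hb' i]
    exact SetLike.mul_mem_graded (A := 𝒮L.deg (W i) (hW i)) (uTop_mem u hY hsm (hW i)) (hbm i)
  refine ⟨l₁ + l₀, by omega, a, by simpa [add_mul, smul_eq_mul] using ha, ?_⟩
  refine eq_of_locally (U := fun i : F => Xs u d s ⊓ W i) (fun _ => inf_le_left) (fun x hx => ?_) fun i => ?_
  · obtain ⟨i, hi⟩ := Opens.mem_iSup.1 (hcov (Opens.mem_top x))
    exact Opens.mem_iSup.2 ⟨i, hx, hi⟩
  · have e1 : rh 𝒮L (inf_le_left : Xs u d s ⊓ W i ≤ _) (uTop u (Xs u d s) a) =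
        rh 𝒮L (inf_le_right : Xs u d s ⊓ W i ≤ W i) (uTop u (W i) a) :=
      (uTop_res u _ a).trans (uTop_res u _ a).symm
    rw [e1, ← uTop_res u (le_top : W i ≤ ⊤) a, hab]
    erw [hb' i]
    rw [map_mul, map_mul, hb i, rh_str, map_pow, map_pow, map_pow]
    change _ * (𝒮L.presheaf.map _).hom _ ^ _ = (𝒮L.presheaf.map _).hom _ ^ _ * _
    rw [uTop_res, uTop_res, mul_left_comm, ← pow_add]

include hj hu hY in
/-- The family of all homogeneous elements with affine locus satisfies (i)–(iv). -/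
theorem domQ_eq_top_and_isOpenImmersion {P PL : Scheme.{u}} (hamp : CohB1.IsAmple L) {p : P ⟶ Y}
    {chart : ∀ (U : Y.Opens) (hU : IsAffineOpen U), (((p ⁻¹ᵁ U : P.Opens) : Scheme.{u}) ≅ Proj (𝒮.deg U hU))}
    (hP : IsRelProj 𝒮 p chart) {pL : PL ⟶ X}
    {chartL : ∀ (U : X.Opens) (hU : IsAffineOpen U), (((pL ⁻¹ᵁ U : PL.Opens) : Scheme.{u}) ≅ Proj (𝒮L.deg U hU))}
    (hPL : IsRelProj 𝒮L pL chartL) {r : ((domQ u pL chartL : PL.Opens) : Scheme.{u}) ⟶ P}
    (hr : IsProjQMapOn u p chart pL chartL (domQ u pL chartL) r) :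
    domQ u pL chartL = ⊤ ∧ IsOpenImmersion r := by
  have hL : PicF.IsInvertible L := hamp.1
  have : CompactSpace X := hamp.2.1
  have := Props.AmpleBase.quasiSeparatedSpace_of_isAmple hamp
  have key : ∀ x : X, ∃ (n : ℕ) (a : 𝒮.presheaf.obj (op (⊤ : Y.Opens))),
      a ∈ 𝒮.deg ⊤ hY (n + 1) ∧ x ∈ Xs u (n + 1) a ∧ IsAffineOpen (Xs u (n + 1) a) := by
    intro x
    obtain ⟨n, s, hx, haff⟩ := hamp.2.2 x
    obtain ⟨a, ha, hXa⟩ := exists_of_tensorPow u hj hY hu hL s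
    exact ⟨n, a, ha, hXa ▸ hx, hXa ▸ haff⟩
  choose n a ha hxa haff using key
  obtain ⟨hdom, l, hl, hl'⟩ := exists_factor u r hr hj hL hP hPL hY (MorphismProperty.isomorphisms Scheme)
    (fun x : X => n x + 1) a (fun x => ⟨Nat.succ_pos _, ha x⟩)
    (top_le_iff.1 fun x _ => Opens.mem_iSup.2 ⟨x, hxa x⟩) haff (fun x => isIso_SpecMap_iff.2
      ⟨(injective_iff' u hY (Nat.succ_pos _) (ha x) (haff x)).2
          fun m _ a' ha' h0 => cond_inj u hj hY hu hL (ha x) ha' h0,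
        (surjective_iff u hY (Nat.succ_pos _) hj hL hPL (ha x) (haff x)).2
          fun t => cond_surj u hj hY hu hL (ha x) t⟩)
  have : IsIso l := hl'
  exact ⟨hdom, hl ▸ inferInstance⟩

end Groth.Agent.RelProjLib.AmpleImm

end
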