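import Groth.Agent.RelProjLib.Preimage
import Groth.Agent.RelProjLib.ProjMap
import Groth.Agent.RelProjLib.Existence

/-! Integrality of `Proj`. -/

noncomputable section

universe u

open CategoryTheory CategoryTheory.Limits AlgebraicGeometry TopologicalSpace Opposite
open scoped HomogeneousIdeal
open RelProj

namespace Groth.Agent.RelProjLib

/-- The point `(0)` of `Proj` of a domain with nonzero irrelevant ideal lies in every nonempty open. -/
lemma exists_point_dense {A σ : Type u} [CommRing A] [IsDomain A] [SetLike σ A] [AddSubgroupClass σ A]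
    {𝒜 : ℕ → σ} [GradedRing 𝒜] (h : (𝒜₊).toIdeal ≠ ⊥) :
    ∃ η : Proj 𝒜, ∀ O : (Proj 𝒜).Opens, (O : Set (Proj 𝒜)).Nonempty → η ∈ O := by
  refine ⟨(⟨⊥, Ideal.isPrime_bot, fun hle => h (le_bot_iff.1 hle)⟩ : ProjectiveSpectrum 𝒜), fun O ⟨y, hy⟩ => ?_⟩
  obtain ⟨_, ⟨g, rfl⟩, hyg, hgO⟩ :=
    (ProjectiveSpectrum.isTopologicalBasis_basic_opens 𝒜).exists_subset_of_mem_open hy O.2
  refine hgO ((ProjectiveSpectrum.mem_basicOpen _ _ _).2 fun hm => ?_)
  have hg0 : g = 0 := hm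
  exact (ProjectiveSpectrum.mem_basicOpen _ _ _).1 hyg (hg0 ▸ zero_mem _)

variable {S : Scheme.{u}} {𝒮 : QCGrAlg S} {P : Scheme.{u}} {p : P ⟶ S}
  {chart : ∀ (U : S.Opens) (hU : IsAffineOpen U), (((p ⁻¹ᵁ U : P.Opens) : Scheme.{u}) ≅ Proj (𝒮.deg U hU))}

/-- A point over `D(r)` does not contain `r`. -/
lemma str_notMem (hP : IsRelProj 𝒮 p chart) {U : S.Opens} (hU : IsAffineOpen U) (r : Γ(S, U))
    (y : Proj (𝒮.deg U hU)) (hy : p (emb p chart U hU y) ∈ S.basicOpen r) :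
    (𝒮.str.app (op U)).hom r ∉ y.asHomogeneousIdeal := by
  have hWV := isAwayZero_res 𝒮 U hU r
  have hOI := isOpenImmersion_map_of_isAwayZero hWV (𝒮.irrelevant_le_map U hU r)
  obtain ⟨w, hw⟩ : emb p chart U hU y ∈ (emb p chart (S.basicOpen r) (hU.basicOpen r)).opensRange := by
    rw [emb_opensRange]; exact hy
  rw [← map_res_emb hP U hU r, Scheme.Hom.comp_apply] at hw
  have hm : y ∈ (Proj.map (𝒮.res hU (hU.basicOpen r) (S.basicOpen_le r)) (𝒮.irrelevant_le_map U hU r)).opensRange :=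
    ⟨w, (emb p chart U hU).isOpenEmbedding.injective hw⟩
  rw [opensRange_map_of_isAwayZero hWV] at hm
  exact hm

end Groth.Agent.RelProjLib
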