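import Groth.Agent.RelProjLib.Res
import Groth.Prelude.Def_RelProj4

/-! `Proj(u)` for a graded morphism over a morphism of bases: standard charts, existence and uniqueness on `G(u)`. -/

noncomputable section

universe u

open CategoryTheory CategoryTheory.Limits AlgebraicGeometry TopologicalSpace Opposite
open scoped HomogeneousIdeal
open RelProj

namespace Groth.Agent.RelProjLib

/-- Glue morphisms given on a family of open immersions into an open `W`, directed by refinement. -/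
lemma existsUnique_glue_directed {X P : Scheme.{u}} (W : X.Opens) {J : Type u} {Z : J → Scheme.{u}}
    (e : ∀ j, Z j ⟶ X) [∀ j, IsOpenImmersion (e j)] (hW : ∀ j, Set.range (e j) ⊆ Set.range W.ι)
    (hcov : ∀ x ∈ W, ∃ j, x ∈ Set.range (e j)) (c : ∀ j, Z j ⟶ P)
    (href : ∀ i j, ∀ x : X, x ∈ Set.range (e i) → x ∈ Set.range (e j) → ∃ (k : J) (s : Z k ⟶ Z i) (t : Z k ⟶ Z j),
      x ∈ Set.range (e k) ∧ s ≫ e i = e k ∧ s ≫ c i = c k ∧ t ≫ e j = e k ∧ t ≫ c j = c k) :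
    ∃! r : (W : Scheme.{u}) ⟶ P, ∀ j, IsOpenImmersion.lift W.ι (e j) (hW j) ≫ r = c j := by
  let l : ∀ j, Z j ⟶ W := fun j => IsOpenImmersion.lift W.ι (e j) (hW j)
  have hl : ∀ j, l j ≫ W.ι = e j := fun j => IsOpenImmersion.lift_fac _ _ _
  have hOI : ∀ j, IsOpenImmersion (l j) := fun j => by
    have : IsOpenImmersion (l j ≫ W.ι) := by rw [hl j]; infer_instance
    exact IsOpenImmersion.of_comp (l j) W.ι
  let 𝒰 : Scheme.OpenCover (W : Scheme.{u}) := Scheme.Cover.mkOfCovers J Z l (fun x => by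
    obtain ⟨j, y, hy⟩ := hcov (W.ι x) x.2
    exact ⟨j, y, W.ι.isOpenEmbedding.injective (by rw [← Scheme.Hom.comp_apply, hl j]; exact hy)⟩) hOI
  have agree : ∀ i j, pullback.fst (l i) (l j) ≫ c i = pullback.snd (l i) (l j) ≫ c j := by
    intro i j
    let q := pullback.fst (l i) (l j) ≫ e i
    refine Scheme.hom_ext_of_forall _ _ fun x => ?_
    obtain ⟨k, s, t, hk, hse, hsc, hte, htc⟩ := href i j (q x) ⟨_, rfl⟩
      ⟨pullback.snd (l i) (l j) x, by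
        rw [← hl j, ← Scheme.Hom.comp_apply, ← pullback.condition_assoc, hl i]⟩
    refine ⟨q ⁻¹ᵁ (e k).opensRange, hk, ?_⟩
    let V := q ⁻¹ᵁ (e k).opensRange
    let m := IsOpenImmersion.lift (e k) (V.ι ≫ q) (by rintro _ ⟨y, rfl⟩; exact y.2)
    have hm : m ≫ e k = V.ι ≫ q := IsOpenImmersion.lift_fac _ _ _
    have h1 : m ≫ s = V.ι ≫ pullback.fst (l i) (l j) := by
      rw [← cancel_mono (e i), Category.assoc, hse, hm, Category.assoc]
    have h2 : m ≫ t = V.ι ≫ pullback.snd (l i) (l j) := by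
      rw [← cancel_mono (e j), Category.assoc, hte, hm]
      simp only [q]
      rw [← hl i, ← hl j, pullback.condition_assoc, Category.assoc]
    change V.ι ≫ _ = V.ι ≫ _
    rw [← reassoc_of% h1, ← reassoc_of% h2, hsc, htc]
  exact ⟨𝒰.glueMorphisms c agree, fun j => Scheme.Cover.ι_glueMorphisms 𝒰 c agree j,
    fun r hr => Scheme.Cover.hom_ext 𝒰 _ _ fun j =>
      (hr j).trans (Scheme.Cover.ι_glueMorphisms 𝒰 c agree j).symm⟩

section ring

variable {A B C σ τ υ : Type u} [CommRing A] [SetLike σ A] [AddSubgroupClass σ A]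
    [CommRing B] [SetLike τ B] [AddSubgroupClass τ B] [CommRing C] [SetLike υ C] [AddSubgroupClass υ C]
    {𝒜 : ℕ → σ} {ℬ : ℕ → τ} {𝒞 : ℕ → υ} [GradedRing 𝒜] [GradedRing ℬ] [GradedRing 𝒞]

open HomogeneousLocalization

lemma refine_mul (ψ : 𝒜 →+*ᵍ ℬ) {d e : ℕ} (hd : 0 < d) {f g : A} (hf : f ∈ 𝒜 d) (hg : g ∈ 𝒜 e)
    (hfg : f * g ∈ 𝒜 (d + e)) (hde : 0 < d + e) :
    ∃ t : Spec (.of (Away ℬ (ψ (f * g)))) ⟶ Spec (.of (Away ℬ (ψ f))),
      t ≫ Proj.awayι ℬ (ψ f) (ψ.2 hf) hd = Proj.awayι ℬ (ψ (f * g)) (ψ.2 hfg) hde ∧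
      t ≫ Spec.map (CommRingCat.ofHom (Away.map ψ f)) ≫ Proj.awayι 𝒜 f hf hd =
        Spec.map (CommRingCat.ofHom (Away.map ψ (f * g))) ≫ Proj.awayι 𝒜 (f * g) hfg hde := by
  refine ⟨Spec.map (CommRingCat.ofHom (awayMap ℬ (ψ.2 hg) (map_mul ψ f g))),
    Proj.SpecMap_awayMap_awayι ℬ (ψ.2 hf) hd (ψ.2 hg) (map_mul ψ f g), ?_⟩
  rw [← Proj.SpecMap_awayMap_awayι 𝒜 hf hd hg rfl, ← Spec.map_comp_assoc, ← Spec.map_comp_assoc]
  congr 2
  refine CommRingCat.hom_ext (RingHom.ext fun x => ?_)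
  obtain ⟨n, a, ha, rfl⟩ := Away.mk_surjective 𝒜 hf x
  simp only [CommRingCat.hom_comp, RingHom.comp_apply, CommRingCat.hom_ofHom, awayMap_mk, Away.map_mk]
  apply val_injective
  simp

lemma refine_res (ψ : 𝒜 →+*ᵍ ℬ) (ρ' : ℬ →+*ᵍ 𝒞) (hρ' : 𝒞₊ ≤ ℬ₊.map ρ') (φ : 𝒜 →+*ᵍ 𝒞)
    (hφ : φ = ρ'.comp ψ) {d : ℕ} (hd : 0 < d) {f : A} (hf : f ∈ 𝒜 d) :
    ∃ t : Spec (.of (Away 𝒞 (φ f))) ⟶ Spec (.of (Away ℬ (ψ f))),
      t ≫ Proj.awayι ℬ (ψ f) (ψ.2 hf) hd = Proj.awayι 𝒞 (φ f) (φ.2 hf) hd ≫ Proj.map ρ' hρ' ∧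
      t ≫ Spec.map (CommRingCat.ofHom (Away.map ψ f)) = Spec.map (CommRingCat.ofHom (Away.map φ f)) := by
  subst hφ
  refine ⟨Spec.map (CommRingCat.ofHom (Away.map ρ' (ψ f))),
    (Proj.awayι_comp_map ρ' hρ' hd (ψ f) (ψ.2 hf)).symm, ?_⟩
  rw [← Spec.map_comp, ← CommRingCat.ofHom_comp]
  congr 2
  exact (Away.map_comp ψ ρ' f).symm

end ring

variable {S S' : Scheme.{u}} {g : S' ⟶ S} {𝒮 : QCGrAlg S} {𝒮' : QCGrAlg S'} (u : QGrHom g 𝒮 𝒮')

lemma gradedAt_comp_res {U W : S.Opens} {hU : IsAffineOpen U} {hW : IsAffineOpen W} {U' W' : S'.Opens}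
    {hU' : IsAffineOpen U'} {hW' : IsAffineOpen W'} (hle : U' ≤ g ⁻¹ᵁ U) (hle' : W' ≤ g ⁻¹ᵁ W) (i : W ≤ U)
    (i' : W' ≤ U') :
    (u.gradedAt W hW W' hW' hle').comp (𝒮.res hU hW i) =
      (𝒮'.res hU' hW' i').comp (u.gradedAt U hU U' hU' hle) := by
  apply GradedRingHom.ext
  intro x
  show (u.appLE W W' hle').hom ((𝒮.presheaf.map (homOfLE i).op).hom x) =
    (𝒮'.presheaf.map (homOfLE i').op).hom ((u.appLE U U' hle).hom x)
  rw [← CommRingCat.comp_apply, ← CommRingCat.comp_apply, u.toQHom.map_appLE i hle', u.toQHom.appLE_map hle i']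

variable {P : Scheme.{u}} (p : P ⟶ S)
  (chart : ∀ (U : S.Opens) (hU : IsAffineOpen U), (((p ⁻¹ᵁ U : P.Opens) : Scheme.{u}) ≅ Proj (𝒮.deg U hU)))
  {P' : Scheme.{u}} (p' : P' ⟶ S')
  (chart' : ∀ (U' : S'.Opens) (hU' : IsAffineOpen U'), (((p' ⁻¹ᵁ U' : P'.Opens) : Scheme.{u}) ≅ Proj (𝒮'.deg U' hU')))

/-- Index of a standard chart of `G(u)`. -/
structure ChartIdx where
  U : S.Opens
  hU : IsAffineOpen U
  U' : S'.Opens
  hU' : IsAffineOpen U'
  hle : U' ≤ g ⁻¹ᵁ U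
  d : ℕ
  hd : 0 < d
  f : 𝒮.presheaf.obj (op U)
  hf : f ∈ 𝒮.deg U hU d

variable {u}

/-- The source of a standard chart. -/
abbrev ChartIdx.X (i : ChartIdx (g := g) (𝒮 := 𝒮)) (u : QGrHom g 𝒮 𝒮') : Scheme.{u} :=
  Spec (CommRingCat.of (HomogeneousLocalization.Away (𝒮'.deg i.U' i.hU') (u.gradedAt i.U i.hU i.U' i.hU' i.hle i.f)))

variable (u)

/-- The standard chart as an open immersion into `P'`. -/
abbrev ChartIdx.e (i : ChartIdx (g := g) (𝒮 := 𝒮)) : i.X u ⟶ P' :=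
  awayEmb u p' chart' i.U i.hU i.U' i.hU' i.hle i.hd i.f i.hf

/-- The morphism to `P` prescribed on a standard chart. -/
abbrev ChartIdx.c (i : ChartIdx (g := g) (𝒮 := 𝒮)) : i.X u ⟶ P :=
  Spec.map (CommRingCat.ofHom (HomogeneousLocalization.Away.map (u.gradedAt i.U i.hU i.U' i.hU' i.hle) i.f)) ≫
    Proj.awayι (𝒮.deg i.U i.hU) i.f i.hf i.hd ≫ emb p chart i.U i.hU

lemma isOpenImmersion_e (i : ChartIdx (g := g) (𝒮 := 𝒮)) : IsOpenImmersion (i.e u p' chart') := by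
  unfold ChartIdx.e awayEmb; infer_instance

lemma mem_range_e {i : ChartIdx (g := g) (𝒮 := 𝒮)} {x : P'} :
    x ∈ Set.range (i.e u p' chart') ↔ ∃ y, emb p' chart' i.U' i.hU' y = x ∧
      u.gradedAt i.U i.hU i.U' i.hU' i.hle i.f ∉ y.asHomogeneousIdeal := by
  constructor
  · rintro ⟨z, rfl⟩
    refine ⟨Proj.awayι (𝒮'.deg i.U' i.hU') (u.gradedAt i.U i.hU i.U' i.hU' i.hle i.f)
      ((u.gradedAt i.U i.hU i.U' i.hU' i.hle).2 i.hf) i.hd z, rfl, ?_⟩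
    exact (Proj.opensRange_awayι (𝒮'.deg i.U' i.hU') _ ((u.gradedAt i.U i.hU i.U' i.hU' i.hle).2 i.hf) i.hd).le
      ⟨z, rfl⟩
  · rintro ⟨y, rfl, hy⟩
    obtain ⟨z, hz⟩ := (Proj.opensRange_awayι (𝒮'.deg i.U' i.hU') _
      ((u.gradedAt i.U i.hU i.U' i.hU' i.hle).2 i.hf) i.hd).ge hy
    exact ⟨z, by rw [← hz]; rfl⟩

variable {chart chart'}

lemma exists_res (hP : IsRelProj 𝒮 p chart) (hP' : IsRelProj 𝒮' p' chart')
    (i : ChartIdx (g := g) (𝒮 := 𝒮)) {W : S.Opens} (hW : IsAffineOpen W) {W' : S'.Opens} (hW' : IsAffineOpen W')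
    (hle : W' ≤ g ⁻¹ᵁ W) (iW : W ≤ i.U) (iW' : W' ≤ i.U') :
    ∃ t : (ChartIdx.mk W hW W' hW' hle i.d i.hd (𝒮.res i.hU hW iW i.f) ((𝒮.res i.hU hW iW).2 i.hf)).X u ⟶ i.X u,
      t ≫ i.e u p' chart' =
        (ChartIdx.mk W hW W' hW' hle i.d i.hd (𝒮.res i.hU hW iW i.f) ((𝒮.res i.hU hW iW).2 i.hf)).e u p' chart' ∧
      t ≫ i.c u p chart =
        (ChartIdx.mk W hW W' hW' hle i.d i.hd (𝒮.res i.hU hW iW i.f) ((𝒮.res i.hU hW iW).2 i.hf)).c u p chart := by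
  obtain ⟨t, h1, h2⟩ := refine_res (u.gradedAt i.U i.hU i.U' i.hU' i.hle) (𝒮'.res i.hU' hW' iW')
    (irrelevant_le_map_affine 𝒮' i.hU' hW' iW') ((u.gradedAt W hW W' hW' hle).comp (𝒮.res i.hU hW iW))
    (gradedAt_comp_res u i.hle hle iW iW') i.hd i.hf
  refine ⟨t, ?_, ?_⟩
  · show t ≫ Proj.awayι _ _ _ _ ≫ emb p' chart' i.U' i.hU' = Proj.awayι _ _ _ _ ≫ emb p' chart' W' hW'
    rw [← map_res_emb_affine 𝒮' hP' i.hU' hW' iW', reassoc_of% h1]
  · have e1 : Spec.map (CommRingCat.ofHom (HomogeneousLocalization.Away.map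
        ((u.gradedAt W hW W' hW' hle).comp (𝒮.res i.hU hW iW)) i.f)) =
        Spec.map (CommRingCat.ofHom (HomogeneousLocalization.Away.map (u.gradedAt W hW W' hW' hle) (𝒮.res i.hU hW iW i.f))) ≫
          Spec.map (CommRingCat.ofHom (HomogeneousLocalization.Away.map (𝒮.res i.hU hW iW) i.f)) := by
      rw [← Spec.map_comp]
      exact congrArg (fun h => Spec.map (CommRingCat.ofHom h)) (HomogeneousLocalization.Away.map_comp _ _ _)
    have e2 := Proj.awayι_comp_map (𝒮.res i.hU hW iW) (irrelevant_le_map_affine 𝒮 i.hU hW iW) i.hd i.f i.hf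
    have e3 := map_res_emb_affine 𝒮 hP i.hU hW iW
    refine (Category.assoc _ _ _).symm.trans ((h2.trans e1 =≫ _).trans ((Category.assoc _ _ _).trans ?_))
    show _ ≫ _ = Spec.map _ ≫ Proj.awayι _ (𝒮.res i.hU hW iW i.f) _ _ ≫ emb p chart W hW
    congr 1
    exact (Category.assoc _ _ _).symm.trans ((e2.symm =≫ _).trans ((Category.assoc _ _ _).trans
      (congrArg (Proj.awayι _ _ _ _ ≫ ·) e3)))

lemma exists_res_mem (hP : IsRelProj 𝒮 p chart) (hP' : IsRelProj 𝒮' p' chart')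
    (i : ChartIdx (g := g) (𝒮 := 𝒮)) {x : P'} (hx : x ∈ Set.range (i.e u p' chart'))
    {W : S.Opens} (hW : IsAffineOpen W) {W' : S'.Opens} (hW' : IsAffineOpen W')
    (hle : W' ≤ g ⁻¹ᵁ W) (iW : W ≤ i.U) (iW' : W' ≤ i.U') (hxW : p' x ∈ W') :
    ∃ y, emb p' chart' W' hW' y = x ∧
      u.gradedAt W hW W' hW' hle (𝒮.res i.hU hW iW i.f) ∉ y.asHomogeneousIdeal := by
  obtain ⟨y₀, hy₀, hy₀f⟩ := (mem_range_e u p' chart').1 hx
  have hxr : x ∈ (emb p' chart' W' hW').opensRange := by rw [emb_opensRange]; exact hxW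
  obtain ⟨y, rfl⟩ := hxr
  refine ⟨y, rfl, ?_⟩
  have e := map_res_emb_affine 𝒮' hP' i.hU' hW' iW'
  rw [← e, Scheme.Hom.comp_apply] at hy₀
  obtain rfl := (emb p' chart' i.U' i.hU').isOpenEmbedding.injective hy₀
  have := GradedRingHom.congr_fun (gradedAt_comp_res u i.hle hle iW iW' (hU := i.hU) (hW := hW) (hU' := i.hU')
    (hW' := hW')) i.f
  change u.gradedAt W hW W' hW' hle (𝒮.res i.hU hW iW i.f) ∉ y.asHomogeneousIdeal
  rw [show u.gradedAt W hW W' hW' hle (𝒮.res i.hU hW iW i.f) =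
    𝒮'.res i.hU' hW' iW' (u.gradedAt i.U i.hU i.U' i.hU' i.hle i.f) from this]
  exact hy₀f

lemma chart_refine (hP : IsRelProj 𝒮 p chart) (hP' : IsRelProj 𝒮' p' chart')
    (i j : ChartIdx (g := g) (𝒮 := 𝒮)) (x : P') (hi : x ∈ Set.range (i.e u p' chart'))
    (hj : x ∈ Set.range (j.e u p' chart')) :
    ∃ (k : ChartIdx (g := g) (𝒮 := 𝒮)) (s : k.X u ⟶ i.X u) (t : k.X u ⟶ j.X u),
      x ∈ Set.range (k.e u p' chart') ∧ s ≫ i.e u p' chart' = k.e u p' chart' ∧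
      s ≫ i.c u p chart = k.c u p chart ∧ t ≫ j.e u p' chart' = k.e u p' chart' ∧
      t ≫ j.c u p chart = k.c u p chart := by
  have memU : ∀ k : ChartIdx (g := g) (𝒮 := 𝒮), x ∈ Set.range (k.e u p' chart') → p' x ∈ k.U' := by
    intro k hk
    obtain ⟨y, rfl, -⟩ := (mem_range_e u p' chart').1 hk
    have h : emb p' chart' k.U' k.hU' y ∈ (emb p' chart' k.U' k.hU').opensRange := ⟨_, rfl⟩
    rwa [emb_opensRange] at h
  have hxi := memU i hi
  have hxj := memU j hj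
  obtain ⟨_, ⟨W, hW, rfl⟩, hxW, hWle⟩ := S.isBasis_affineOpens.exists_subset_of_mem_open
    (show g (p' x) ∈ i.U ⊓ j.U from ⟨i.hle hxi, j.hle hxj⟩) (i.U ⊓ j.U).2
  replace hW : IsAffineOpen W := hW
  obtain ⟨_, ⟨W', hW', rfl⟩, hxW', hW'le⟩ := S'.isBasis_affineOpens.exists_subset_of_mem_open
    (show p' x ∈ (i.U' ⊓ j.U') ⊓ g ⁻¹ᵁ W from ⟨⟨hxi, hxj⟩, hxW⟩) ((i.U' ⊓ j.U') ⊓ g ⁻¹ᵁ W).2
  replace hW' : IsAffineOpen W' := hW'
  have iWi : W ≤ i.U := fun z hz => (hWle hz).1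
  have iWj : W ≤ j.U := fun z hz => (hWle hz).2
  have hle : W' ≤ g ⁻¹ᵁ W := fun z hz => (hW'le hz).2
  have iW'i : W' ≤ i.U' := fun z hz => (hW'le hz).1.1
  have iW'j : W' ≤ j.U' := fun z hz => (hW'le hz).1.2
  obtain ⟨y, hy, hyi⟩ := exists_res_mem u p p' hP hP' i hi hW hW' hle iWi iW'i hxW'
  obtain ⟨y', hy', hyj⟩ := exists_res_mem u p p' hP hP' j hj hW hW' hle iWj iW'j hxW'
  obtain rfl := (emb p' chart' W' hW').isOpenEmbedding.injective (hy'.trans hy.symm)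
  obtain ⟨ti, hti, hti'⟩ := exists_res u p p' hP hP' i hW hW' hle iWi iW'i
  obtain ⟨tj, htj, htj'⟩ := exists_res u p p' hP hP' j hW hW' hle iWj iW'j
  have hfi := (𝒮.res i.hU hW iWi).2 i.hf
  have hfj := (𝒮.res j.hU hW iWj).2 j.hf
  have hfk : 𝒮.res i.hU hW iWi i.f * 𝒮.res j.hU hW iWj j.f ∈ 𝒮.deg W hW (i.d + j.d) :=
    SetLike.mul_mem_graded (A := 𝒮.deg W hW) hfi hfj
  have hfk' : 𝒮.res j.hU hW iWj j.f * 𝒮.res i.hU hW iWi i.f ∈ 𝒮.deg W hW (j.d + i.d) :=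
    SetLike.mul_mem_graded (A := 𝒮.deg W hW) hfj hfi
  obtain ⟨si, hsi, hsi'⟩ := refine_mul (u.gradedAt W hW W' hW' hle) i.hd hfi hfj hfk (Nat.add_pos_left i.hd _)
  obtain ⟨sj, hsj, hsj'⟩ := refine_mul (u.gradedAt W hW W' hW' hle) j.hd hfj hfi hfk' (Nat.add_pos_left j.hd _)
  let k : ChartIdx (g := g) (𝒮 := 𝒮) :=
    ⟨W, hW, W', hW', hle, i.d + j.d, Nat.add_pos_left i.hd _, _, hfk⟩
  have comm : ∀ (z : 𝒮.presheaf.obj (op W)) (n : ℕ) (hn : 0 < n) (hz : z ∈ 𝒮.deg W hW n),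
      z = 𝒮.res i.hU hW iWi i.f * 𝒮.res j.hU hW iWj j.f → n = i.d + j.d →
      ∀ (t : (ChartIdx.mk W hW W' hW' hle n hn z hz).X u ⟶ j.X u),
        t ≫ j.e u p' chart' = (ChartIdx.mk W hW W' hW' hle n hn z hz).e u p' chart' →
        t ≫ j.c u p chart = (ChartIdx.mk W hW W' hW' hle n hn z hz).c u p chart →
        ∃ t' : k.X u ⟶ j.X u, t' ≫ j.e u p' chart' = k.e u p' chart' ∧ t' ≫ j.c u p chart = k.c u p chart := by
    intro z n hn hz ez en t h1 h2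
    subst ez
    subst en
    exact ⟨t, h1, h2⟩
  obtain ⟨t, ht1, ht2⟩ := comm _ _ (Nat.add_pos_left j.hd _) hfk' (mul_comm _ _) (add_comm _ _) (sj ≫ tj)
    (by rw [Category.assoc, htj]; exact (Category.assoc _ _ _).symm.trans (hsj =≫ emb p' chart' W' hW'))
    (by rw [Category.assoc, htj']
        dsimp only [ChartIdx.c]
        exact ((congrArg (sj ≫ ·) (Category.assoc _ _ _).symm).trans (Category.assoc _ _ _).symm).trans
          ((hsj' =≫ emb p chart W hW).trans (Category.assoc _ _ _)))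
  refine ⟨k, si ≫ ti, t, (mem_range_e u p' chart').2 ⟨y', hy, ?_⟩, ?_, ?_, ht1, ht2⟩
  · show u.gradedAt W hW W' hW' hle _ ∉ y'.asHomogeneousIdeal
    rw [map_mul]
    exact fun h => (y'.isPrime.mem_or_mem h).elim hyi hyj
  · rw [Category.assoc, hti]
    exact (Category.assoc _ _ _).symm.trans (hsi =≫ emb p' chart' W' hW')
  · rw [Category.assoc, hti']
    dsimp only [k, ChartIdx.c]
    exact ((congrArg (si ≫ ·) (Category.assoc _ _ _).symm).trans (Category.assoc _ _ _).symm).trans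
      ((hsi' =≫ emb p chart W hW).trans (Category.assoc _ _ _))

variable (chart') in
lemma exists_chart_of_mem_domQ {x : P'} (hx : x ∈ domQ u p' chart') :
    ∃ i : ChartIdx (g := g) (𝒮 := 𝒮), x ∈ Set.range (i.e u p' chart') := by
  classical
  obtain ⟨⟨⟨U, U'⟩, hle⟩, y, hy, rfl⟩ := Opens.mem_iSup.1 hx
  obtain ⟨f, hf, hfy⟩ := (RelCone.mem_domOpen _ _).1 hy
  have : ∃ n, u.gradedAt U.1 U.2 U'.1 U'.2 hle (DirectSum.decompose (𝒮.deg U.1 U.2) f n : 𝒮.presheaf.obj (op U.1)) ∉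
      y.asHomogeneousIdeal := by
    by_contra hne
    push Not at hne
    refine hfy ?_
    rw [← DirectSum.sum_support_decompose (𝒮.deg U.1 U.2) f, map_sum]
    exact sum_mem fun n _ => hne n
  obtain ⟨n, hn⟩ := this
  have hn0 : 0 < n := by
    refine Nat.pos_of_ne_zero fun h => hn ?_
    subst h
    rw [HomogeneousIdeal.mem_iff, HomogeneousIdeal.mem_irrelevant_iff, GradedRing.proj_apply] at hf
    rw [hf, map_zero]
    exact zero_mem _
  exact ⟨⟨U.1, U.2, U'.1, U'.2, hle, n, hn0, _, SetLike.coe_mem _⟩,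
    (mem_range_e u p' chart').2 ⟨y, rfl, hn⟩⟩

/-- Existence and uniqueness of `Proj(u)` on `G(u)`. -/
lemma existsUnique_isProjQMapOn (hP : IsRelProj 𝒮 p chart) (hP' : IsRelProj 𝒮' p' chart') :
    ∃! r : ((domQ u p' chart' : P'.Opens) : Scheme.{u}) ⟶ P,
      IsProjQMapOn u p chart p' chart' (domQ u p' chart') r := by
  have hOI := fun i => isOpenImmersion_e u p' chart' i
  obtain ⟨r, hr, hu⟩ := existsUnique_glue_directed (domQ u p' chart')
    (fun i : ChartIdx (g := g) (𝒮 := 𝒮) => i.e u p' chart')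
    (fun i => range_awayEmb_subset_domQ u p' chart' i.U i.hU i.U' i.hU' i.hle i.hd i.f i.hf)
    (fun x hx => exists_chart_of_mem_domQ u p' chart' hx) (fun i => i.c u p chart)
    (chart_refine u p p' hP hP')
  exact ⟨r, fun U hU U' hU' hle d hd f hf _ => hr ⟨U, hU, U', hU', hle, d, hd, f, hf⟩,
    fun r' hr' => hu r' fun i => hr' i.U i.hU i.U' i.hU' i.hle i.d i.hd i.f i.hf _⟩

lemma comp_of_isProjQMapOn (hP : IsRelProj 𝒮 p chart) (hP' : IsRelProj 𝒮' p' chart')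
    {r : ((domQ u p' chart' : P'.Opens) : Scheme.{u}) ⟶ P}
    (hr : IsProjQMapOn u p chart p' chart' (domQ u p' chart') r) :
    r ≫ p = (domQ u p' chart').ι ≫ p' ≫ g := by
  refine Scheme.hom_ext_of_forall _ _ fun x => ?_
  obtain ⟨i, z, hz⟩ := exists_chart_of_mem_domQ u p' chart' x.2
  have hOI := isOpenImmersion_e u p' chart' i
  have hW := range_awayEmb_subset_domQ u p' chart' i.U i.hU i.U' i.hU' i.hle i.hd i.f i.hf
  let l := IsOpenImmersion.lift (domQ u p' chart').ι (i.e u p' chart') hW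
  have hl : l ≫ (domQ u p' chart').ι = i.e u p' chart' := IsOpenImmersion.lift_fac _ _ _
  have : IsOpenImmersion (l ≫ (domQ u p' chart').ι) := by rw [hl]; infer_instance
  have : IsOpenImmersion l := IsOpenImmersion.of_comp l (domQ u p' chart').ι
  refine ⟨l.opensRange, ⟨z, (domQ u p' chart').ι.isOpenEmbedding.injective ?_⟩, ?_⟩
  · rw [← Scheme.Hom.comp_apply, hl]; exact hz
  · rw [← cancel_epi l.isoOpensRange.hom, Scheme.Hom.isoOpensRange_hom_ι_assoc,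
      Scheme.Hom.isoOpensRange_hom_ι_assoc, reassoc_of% hl,
      reassoc_of% (hr i.U i.hU i.U' i.hU' i.hle i.d i.hd i.f i.hf hW)]
    show Spec.map _ ≫ Proj.awayι _ _ _ _ ≫ emb p chart i.U i.hU ≫ p =
      (Proj.awayι _ _ _ _ ≫ emb p' chart' i.U' i.hU') ≫ p' ≫ g
    rw [emb_comp hP, Category.assoc, ← Category.assoc (emb p' chart' i.U' i.hU'), emb_comp hP',
      Proj.awayι_toSpecZero_assoc, Category.assoc, Category.assoc, Proj.awayι_toSpecZero_assoc,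
      ← IsAffineOpen.SpecMap_appLE_fromSpec g i.hU i.hU' i.hle]
    simp only [← Spec.map_comp_assoc]
    congr 2
    refine CommRingCat.hom_ext (RingHom.ext fun r => ?_)
    have e := congr($(u.toQHom.str_appLE i.U i.U' i.hle).hom r)
    apply HomogeneousLocalization.val_injective
    dsimp [HomogeneousLocalization.Away.map, HomogeneousLocalization.fromZeroRingHom]
    erw [HomogeneousLocalization.map_mk, HomogeneousLocalization.val_mk]
    · exact congrArg₂ Localization.mk e (Subtype.ext (map_one (u.gradedAt i.U i.hU i.U' i.hU' i.hle)))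
    · rintro _ ⟨n, rfl⟩
      exact ⟨n, (map_pow (u.gradedAt i.U i.hU i.U' i.hU' i.hle) i.f n).symm⟩

lemma mem_domQ_iff (hP : IsRelProj 𝒮 p chart) (hP' : IsRelProj 𝒮' p' chart') {U : S.Opens} (hU : IsAffineOpen U)
    {U' : S'.Opens} (hU' : IsAffineOpen U') (hle : U' ≤ g ⁻¹ᵁ U) (y : Proj (𝒮'.deg U' hU')) :
    emb p' chart' U' hU' y ∈ domQ u p' chart' ↔ y ∈ RelCone.domOpen (u.gradedAt U hU U' hU' hle) := by
  refine ⟨fun hx => ?_, fun hy => Opens.mem_iSup.2 ⟨⟨(⟨U, hU⟩, ⟨U', hU'⟩), hle⟩, y, hy, rfl⟩⟩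
  obtain ⟨i, hi⟩ := exists_chart_of_mem_domQ u p' chart' hx
  let x := emb p' chart' U' hU' y
  have hxU : p' x ∈ U' := by
    have h : x ∈ (emb p' chart' U' hU').opensRange := ⟨_, rfl⟩
    rwa [emb_opensRange] at h
  have hxi : p' x ∈ i.U' := by
    obtain ⟨w, hw, -⟩ := (mem_range_e u p' chart').1 hi
    have h : x ∈ (emb p' chart' i.U' i.hU').opensRange := ⟨w, hw⟩
    rwa [emb_opensRange] at h
  obtain ⟨_, ⟨W, hW, rfl⟩, hxW, hWle⟩ := S.isBasis_affineOpens.exists_subset_of_mem_open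
    (show g (p' x) ∈ U ⊓ i.U from ⟨hle hxU, i.hle hxi⟩) (U ⊓ i.U).2
  replace hW : IsAffineOpen W := hW
  obtain ⟨_, ⟨W', hW', rfl⟩, hxW', hW'le⟩ := S'.isBasis_affineOpens.exists_subset_of_mem_open
    (show p' x ∈ (U' ⊓ i.U') ⊓ g ⁻¹ᵁ W from ⟨⟨hxU, hxi⟩, hxW⟩) ((U' ⊓ i.U') ⊓ g ⁻¹ᵁ W).2
  replace hW' : IsAffineOpen W' := hW'
  have iWU : W ≤ U := fun z hz => (hWle hz).1
  have iW'U : W' ≤ U' := fun z hz => (hW'le hz).1.1
  have hleW : W' ≤ g ⁻¹ᵁ W := fun z hz => (hW'le hz).2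
  obtain ⟨w, hw, hwf⟩ := exists_res_mem u p p' hP hP' i hi hW hW' hleW (fun z hz => (hWle hz).2)
    (fun z hz => (hW'le hz).1.2) hxW'
  rw [← map_res_emb_affine 𝒮' hP' hU' hW' iW'U, Scheme.Hom.comp_apply] at hw
  obtain rfl := (emb p' chart' U' hU').isOpenEmbedding.injective hw
  rw [RelCone.mem_domOpen]
  by_contra hne
  push Not at hne
  refine hwf ?_
  have hirr : (𝒮.res i.hU hW (fun z hz => (hWle hz).2) i.f) ∈ ((𝒮.deg U hU)₊.map (𝒮.res hU hW iWU)) :=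
    irrelevant_le_map_affine 𝒮 hU hW iWU
      (HomogeneousIdeal.mem_irrelevant_of_mem _ i.hd ((𝒮.res i.hU hW (fun z hz => (hWle hz).2)).2 i.hf))
  refine (Ideal.map_le_iff_le_comap.2 ?_ :
    _ ≤ w.asHomogeneousIdeal.toIdeal.comap (u.gradedAt W hW W' hW' hleW).toRingHom) hirr
  intro a ha
  have e := GradedRingHom.congr_fun (gradedAt_comp_res u hle hleW iWU iW'U (hU := hU) (hW := hW) (hU' := hU')
    (hW' := hW')) a
  show u.gradedAt W hW W' hW' hleW (𝒮.res hU hW iWU a) ∈ w.asHomogeneousIdeal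
  rw [show u.gradedAt W hW W' hW' hleW (𝒮.res hU hW iWU a) =
    𝒮'.res hU' hW' iW'U (u.gradedAt U hU U' hU' hle a) from e]
  exact hne a ha

lemma preimage_basicOpen_away {A B σ τ : Type u} [CommRing A] [SetLike σ A] [AddSubgroupClass σ A]
    [CommRing B] [SetLike τ B] [AddSubgroupClass τ B] {𝒜 : ℕ → σ} {ℬ : ℕ → τ} [GradedRing 𝒜] [GradedRing ℬ]
    (ψ : 𝒜 →+*ᵍ ℬ) {n d : ℕ} (hn : 0 < n) {h : A} (hh : h ∈ 𝒜 n) (hd : 0 < d) {f : A} (hf : f ∈ 𝒜 d) :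
    (Spec.map (CommRingCat.ofHom (HomogeneousLocalization.Away.map ψ h)) ≫ Proj.awayι 𝒜 h hh hn) ⁻¹ᵁ
        Proj.basicOpen 𝒜 f =
      Proj.awayι ℬ (ψ h) (ψ.2 hh) hn ⁻¹ᵁ Proj.basicOpen ℬ (ψ f) := by
  have e : HomogeneousLocalization.Away.map ψ h (HomogeneousLocalization.Away.isLocalizationElem hh hf) =
      HomogeneousLocalization.Away.isLocalizationElem (ψ.2 hh) (ψ.2 hf) := by
    rw [HomogeneousLocalization.Away.map_mk]
    congr 1
    exact map_pow ψ f n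
  rw [Scheme.Hom.comp_preimage, Proj.awayι_preimage_basicOpen 𝒜 hh hn hf hd]
  exact (SpecMap_preimage_basicOpen (CommRingCat.ofHom (HomogeneousLocalization.Away.map ψ h))
    (HomogeneousLocalization.Away.isLocalizationElem hh hf)).trans
    ((congrArg PrimeSpectrum.basicOpen e).trans
      (Proj.awayι_preimage_basicOpen ℬ (ψ.2 hh) hn (ψ.2 hf) hd).symm)

lemma mem_image_basicOpen_iff (hP : IsRelProj 𝒮 p chart) (hP' : IsRelProj 𝒮' p' chart')
    {r : ((domQ u p' chart' : P'.Opens) : Scheme.{u}) ⟶ P}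
    (hr : IsProjQMapOn u p chart p' chart' (domQ u p' chart') r) {U : S.Opens} (hU : IsAffineOpen U)
    {U' : S'.Opens} (hU' : IsAffineOpen U') (hle : U' ≤ g ⁻¹ᵁ U) {d : ℕ} (hd : 0 < d)
    {f : 𝒮.presheaf.obj (op U)} (hf : f ∈ 𝒮.deg U hU d) (y : Proj (𝒮'.deg U' hU'))
    (hy : emb p' chart' U' hU' y ∈ domQ u p' chart') :
    r ⟨_, hy⟩ ∈ emb p chart U hU ''ᵁ Proj.basicOpen (𝒮.deg U hU) f ↔
      u.gradedAt U hU U' hU' hle f ∉ y.asHomogeneousIdeal := by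
  classical
  obtain ⟨a, ha, hay⟩ := (RelCone.mem_domOpen _ _).1 ((mem_domQ_iff u p p' hP hP' hU hU' hle y).1 hy)
  obtain ⟨n, hn0, hn⟩ : ∃ n, 0 < n ∧
      u.gradedAt U hU U' hU' hle (DirectSum.decompose (𝒮.deg U hU) a n : 𝒮.presheaf.obj (op U)) ∉
        y.asHomogeneousIdeal := by
    by_contra hne
    push Not at hne
    refine hay ?_
    rw [← DirectSum.sum_support_decompose (𝒮.deg U hU) a, map_sum]
    refine sum_mem fun m _ => ?_
    rcases Nat.eq_zero_or_pos m with rfl | hm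
    · rw [HomogeneousIdeal.mem_iff, HomogeneousIdeal.mem_irrelevant_iff, GradedRing.proj_apply] at ha
      rw [ha, map_zero]
      exact zero_mem _
    · exact hne m hm
  let h := (DirectSum.decompose (𝒮.deg U hU) a n : 𝒮.presheaf.obj (op U))
  have hh : h ∈ 𝒮.deg U hU n := SetLike.coe_mem _
  obtain ⟨z, hz⟩ := (Proj.opensRange_awayι (𝒮'.deg U' hU') _ ((u.gradedAt U hU U' hU' hle).2 hh) hn0).ge hn
  have hW := range_awayEmb_subset_domQ u p' chart' U hU U' hU' hle hn0 h hh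
  have e := hr U hU U' hU' hle n hn0 h hh hW
  have hx : IsOpenImmersion.lift (domQ u p' chart').ι (awayEmb u p' chart' U hU U' hU' hle hn0 h hh) hW z = ⟨_, hy⟩ := by
    refine (domQ u p' chart').ι.isOpenEmbedding.injective ?_
    rw [← Scheme.Hom.comp_apply, IsOpenImmersion.lift_fac]
    show emb p' chart' U' hU' (Proj.awayι (𝒮'.deg U' hU') _ _ hn0 z) = emb p' chart' U' hU' y
    rw [hz]
  rw [← hx, ← Scheme.Hom.comp_apply, e, ← Category.assoc, Scheme.Hom.comp_apply, ← hz]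
  refine Iff.trans ⟨fun ⟨w, hw, hwe⟩ => (emb p chart U hU).isOpenEmbedding.injective hwe ▸ hw,
    fun hw => ⟨_, hw, rfl⟩⟩ ?_
  exact Iff.of_eq (congrArg (z ∈ ·) (preimage_basicOpen_away (u.gradedAt U hU U' hU' hle) hn0 hh hd hf))

lemma exists_isProjQMap (hP : IsRelProj 𝒮 p chart) (hP' : IsRelProj 𝒮' p' chart')
    (htop : domQ u p' chart' = ⊤) : ∃ h : P' ⟶ P, IsProjQMap u p chart p' chart' h := by
  obtain ⟨r, hr, -⟩ := existsUnique_isProjQMapOn u p p' hP hP'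
  have hι : IsIso (domQ u p' chart').ι := by rw [htop, ← Scheme.topIso_hom]; infer_instance
  refine ⟨inv (domQ u p' chart').ι ≫ r, htop, fun U hU U' hU' hle d hd f hf => ?_⟩
  have hW := range_awayEmb_subset_domQ u p' chart' U hU U' hU' hle hd f hf
  rw [← hr U hU U' hU' hle d hd f hf hW, ← Category.assoc]
  congr 1
  rw [IsIso.comp_inv_eq, IsOpenImmersion.lift_fac]

lemma isProjQMapOn_of_isProjQMap {h : P' ⟶ P} (hh : IsProjQMap u p chart p' chart' h) :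
    IsProjQMapOn u p chart p' chart' (domQ u p' chart') ((domQ u p' chart').ι ≫ h) :=
  fun U hU U' hU' hle d hd f hf hW => by
    rw [← Category.assoc, IsOpenImmersion.lift_fac]
    exact hh.2 U hU U' hU' hle d hd f hf

end Groth.Agent.RelProjLib
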