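import Groth.Agent.RelProjLib.AwayBaseChange
import Groth.Agent.RelProjLib.QMap

/-! `Proj(g^*𝒮) = Proj(𝒮) ×_S S'`. -/

noncomputable section

universe u

open CategoryTheory CategoryTheory.Limits AlgebraicGeometry TopologicalSpace Opposite
open scoped HomogeneousIdeal
open RelProj

namespace Groth.Agent.RelProjLib

lemma comp_p_eq {S : Scheme.{u}} {𝒮 : QCGrAlg S} {P : Scheme.{u}} {p : P ⟶ S}
    {chart : ∀ (U : S.Opens) (hU : IsAffineOpen U), (((p ⁻¹ᵁ U : P.Opens) : Scheme.{u}) ≅ Proj (𝒮.deg U hU))}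
    (hP : IsRelProj 𝒮 p chart) {U : S.Opens} (hU : IsAffineOpen U) {d : ℕ} (hd : 0 < d)
    (f : 𝒮.presheaf.obj (op U)) (hf : f ∈ 𝒮.deg U hU d) :
    (Proj.awayι (𝒮.deg U hU) f hf hd ≫ emb p chart U hU) ≫ p =
      Spec.map (CommRingCat.ofHom (zeroToAway (𝒮.str.app (op U)).hom (𝒮.str_mem U hU) f)) ≫ hU.fromSpec := by
  rw [Category.assoc, emb_comp hP, Proj.awayι_toSpecZero_assoc, ← Spec.map_comp_assoc]
  rfl

variable {S S' : Scheme.{u}} {g : S' ⟶ S} {𝒮 : QCGrAlg S} {𝒮' : QCGrAlg S'} (u : QGrHom g 𝒮 𝒮')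
  {P : Scheme.{u}} {p : P ⟶ S}
  {chart : ∀ (U : S.Opens) (hU : IsAffineOpen U), (((p ⁻¹ᵁ U : P.Opens) : Scheme.{u}) ≅ Proj (𝒮.deg U hU))}
  {P' : Scheme.{u}} {p' : P' ⟶ S'}
  {chart' : ∀ (U' : S'.Opens) (hU' : IsAffineOpen U'), (((p' ⁻¹ᵁ U' : P'.Opens) : Scheme.{u}) ≅ Proj (𝒮'.deg U' hU'))}

lemma domQ_eq_top_of_isQBaseChange (hu : RelSpec.IsQBaseChange u.toQHom) : domQ u p' chart' = ⊤ := by
  rw [eq_top_iff]
  intro x _
  obtain ⟨_, ⟨U, hU, rfl⟩, hxU, -⟩ :=
    S.isBasis_affineOpens.exists_subset_of_mem_open (show g (p' x) ∈ (⊤ : S.Opens) from trivial) isOpen_univ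
  obtain ⟨_, ⟨U', hU', rfl⟩, hxU', hle⟩ :=
    S'.isBasis_affineOpens.exists_subset_of_mem_open (show p' x ∈ g ⁻¹ᵁ U from hxU) (g ⁻¹ᵁ U).2
  obtain ⟨y, rfl⟩ : x ∈ (emb p' chart' U' hU').opensRange := by rw [emb_opensRange]; exact hxU'
  refine Opens.mem_iSup.2 ⟨⟨(⟨U, hU⟩, ⟨U', hU'⟩), hle⟩, y, (RelCone.mem_domOpen _ _).2 ?_, rfl⟩
  by_contra hne
  push Not at hne
  refine y.not_irrelevant_le ((irrelevant_le_map_of_isPushout (u.gradedAt U hU U' hU' hle)
    (g.appLE U U' hle).hom (𝒮.str.app (op U)).hom (𝒮'.str.app (op U')).hom (𝒮'.str_mem U' hU')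
    (hu U hU U' hU' hle)).trans ?_)
  exact Ideal.map_le_iff_le_comap.2 hne

lemma isPullback_chart (hP : IsRelProj 𝒮 p chart) (hu : RelSpec.IsQBaseChange u.toQHom)
    (i : ChartIdx (g := g) (𝒮 := 𝒮)) :
    IsPullback
      (Spec.map (CommRingCat.ofHom (HomogeneousLocalization.Away.map (u.gradedAt i.U i.hU i.U' i.hU' i.hle) i.f)))
      (Spec.map (CommRingCat.ofHom (zeroToAway (𝒮'.str.app (op i.U')).hom (𝒮'.str_mem i.U' i.hU')
        (u.gradedAt i.U i.hU i.U' i.hU' i.hle i.f))))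
      ((Proj.awayι (𝒮.deg i.U i.hU) i.f i.hf i.hd ≫ emb p chart i.U i.hU) ≫ p)
      (i.hU'.fromSpec ≫ g) := by
  have pb := (isPullback_SpecMap_of_isPushout _ _ _ _
    (isPushout_away (u.gradedAt i.U i.hU i.U' i.hU' i.hle) (g.appLE i.U i.U' i.hle).hom
      (𝒮.str.app (op i.U)).hom (𝒮'.str.app (op i.U')).hom (𝒮.str_mem i.U i.hU) (𝒮'.str_mem i.U' i.hU')
      (hu i.U i.hU i.U' i.hU' i.hle) i.hf)).flip
  rw [comp_p_eq hP i.hU i.hd i.f i.hf, ← IsAffineOpen.SpecMap_appLE_fromSpec g i.hU i.hU' i.hle]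
  exact ⟨⟨by rw [← Category.assoc, ← Category.assoc, pb.w]; rfl⟩,
    ⟨PullbackCone.isLimitOfCompMono _ _ i.hU.fromSpec _ pb.isLimit⟩⟩

lemma isPullback_of_isQBaseChange (hP : IsRelProj 𝒮 p chart) (hP' : IsRelProj 𝒮' p' chart')
    (hu : RelSpec.IsQBaseChange u.toQHom) {h : P' ⟶ P} (hh : IsProjQMap u p chart p' chart' h) :
    IsPullback h p' p g := by
  have hι : IsIso (domQ u p' chart').ι := by rw [hh.1, ← Scheme.topIso_hom]; infer_instance
  have hon := isProjQMapOn_of_isProjQMap u p p' hh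
  have w : h ≫ p = p' ≫ g := by
    rw [← cancel_epi (domQ u p' chart').ι, ← Category.assoc, comp_of_isProjQMapOn u p p' hP hP' hon]
  let L : P' ⟶ pullback p g := pullback.lift h p' w
  suffices IsIso L from IsPullback.of_iso_pullback ⟨w⟩ (asIso L) (pullback.lift_fst _ _ _) (pullback.lift_snd _ _ _)
  let a : ∀ i : ChartIdx (g := g) (𝒮 := 𝒮), Spec _ ⟶ P := fun i =>
    Proj.awayι (𝒮.deg i.U i.hU) i.f i.hf i.hd ≫ emb p chart i.U i.hU
  let k : ∀ i : ChartIdx (g := g) (𝒮 := 𝒮), i.X u ⟶ pullback p g := fun i =>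
    (isPullback_chart u hP hu i).isoPullback.hom ≫
      pullback.map (a i ≫ p) (i.hU'.fromSpec ≫ g) p g (a i) i.hU'.fromSpec (𝟙 _) (Category.comp_id _) (Category.comp_id _)
  have hk : ∀ i, IsOpenImmersion (k i) := fun i => inferInstance
  have hkr : ∀ i z, z ∈ Set.range (k i) ↔ pullback.fst p g z ∈ Set.range (a i) ∧ pullback.snd p g z ∈ i.U' := by
    intro i z
    simp only [k, Scheme.Hom.comp_base, TopCat.coe_comp]
    rw [Set.range_comp, Set.range_eq_univ.2 (Scheme.Hom.surjective _), Set.image_univ,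
      Scheme.Pullback.range_map, i.hU'.range_fromSpec]
    rfl
  let 𝒰 : (pullback p g).OpenCover := Scheme.Cover.mkOfCovers (ChartIdx (g := g) (𝒮 := 𝒮)) (fun i => i.X u) k
    (fun z => by
      obtain ⟨_, ⟨U, hU, rfl⟩, hxU, -⟩ := S.isBasis_affineOpens.exists_subset_of_mem_open
        (show p (pullback.fst p g z) ∈ (⊤ : S.Opens) from trivial) isOpen_univ
      replace hU : IsAffineOpen U := hU
      have hg : g (pullback.snd p g z) ∈ U := by
        rw [← Scheme.Hom.comp_apply, ← pullback.condition]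
        exact hxU
      obtain ⟨_, ⟨U', hU', rfl⟩, hzU', hle⟩ :=
        S'.isBasis_affineOpens.exists_subset_of_mem_open (show pullback.snd p g z ∈ g ⁻¹ᵁ U from hg) (g ⁻¹ᵁ U).2
      replace hU' : IsAffineOpen U' := hU'
      obtain ⟨y, hy⟩ : pullback.fst p g z ∈ (emb p chart U hU).opensRange := by rw [emb_opensRange]; exact hxU
      obtain ⟨s, hs⟩ := Opens.mem_iSup.1 (((Proj.affineOpenCover (𝒮.deg U hU)).openCover.iSup_opensRange).ge
        (Set.mem_univ y))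
      obtain ⟨v, hv⟩ := hs
      exact ⟨⟨U, hU, U', hU', hle, s.1.1, s.1.2, s.2.1, s.2.2⟩,
        (hkr _ z).2 ⟨⟨v, (Scheme.Hom.comp_apply _ _ v).trans ((congrArg (emb p chart U hU) hv).trans hy)⟩, hzU'⟩⟩)
    hk
  refine (IsZariskiLocalAtTarget.iff_of_openCover (P := MorphismProperty.isomorphisms Scheme) 𝒰).2 fun i => ?_
  let e := i.e u p' chart'
  have : IsOpenImmersion e := isOpenImmersion_e u p' chart' i
  have he : e ≫ L = 𝟙 _ ≫ k i := by
    rw [Category.id_comp]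
    apply pullback.hom_ext
    · simp only [L, k, Category.assoc, pullback.lift_fst, pullback.map]
      exact (hh.2 i.U i.hU i.U' i.hU' i.hle i.d i.hd i.f i.hf).trans
        ((IsPullback.isoPullback_hom_fst (isPullback_chart u hP hu i) =≫ a i).symm.trans (Category.assoc _ _ _))
    · simp only [L, k, Category.assoc, pullback.lift_snd, pullback.map]
      exact (comp_p_eq hP' i.hU' i.hd _ ((u.gradedAt i.U i.hU i.U' i.hU' i.hle).2 i.hf)).trans
        ((IsPullback.isoPullback_hom_snd (isPullback_chart u hP hu i) =≫ i.hU'.fromSpec).symm.trans (Category.assoc _ _ _))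
  have hrange : L ⁻¹ᵁ (k i).opensRange = e.opensRange := by
    apply le_antisymm
    · intro x hx
      obtain ⟨⟨v, hv⟩, hxU'⟩ := (hkr i (L x)).1 hx
      rw [← Scheme.Hom.comp_apply, pullback.lift_fst] at hv
      rw [← Scheme.Hom.comp_apply, pullback.lift_snd] at hxU'
      obtain ⟨y, rfl⟩ : x ∈ (emb p' chart' i.U' i.hU').opensRange := by rw [emb_opensRange]; exact hxU'
      have hd' : emb p' chart' i.U' i.hU' y ∈ domQ u p' chart' := hh.1.ge (Set.mem_univ _)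
      refine (mem_range_e u p' chart').2 ⟨y, rfl, (mem_image_basicOpen_iff u p p' hP hP' hon i.hU i.hU' i.hle
        i.hd i.hf y hd').1 ⟨Proj.awayι (𝒮.deg i.U i.hU) i.f i.hf i.hd v,
          (Proj.opensRange_awayι (𝒮.deg i.U i.hU) i.f i.hf i.hd).le ⟨v, rfl⟩, ?_⟩⟩
      exact ((Scheme.Hom.comp_apply _ _ v).symm.trans hv)
    · rintro _ ⟨z, rfl⟩
      show L (e z) ∈ (k i).opensRange
      rw [← Scheme.Hom.comp_apply, he]
      exact ⟨_, rfl⟩
  have pb := IsOpenImmersion.isPullback _ e (k i) L he hrange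
  change (MorphismProperty.isomorphisms Scheme) (pullback.snd L (k i))
  rw [← pb.flip.isoPullback_inv_snd, MorphismProperty.cancel_left_of_respectsIso (MorphismProperty.isomorphisms Scheme)]
  exact MorphismProperty.isomorphisms.infer_property (𝟙 _)

end Groth.Agent.RelProjLib
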