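import Groth.Prelude.Def_RelProj2

/-! Basic facts on a relative Proj: charts, hom extensionality, gluing morphisms out of it,
local properties of the structure morphism. -/

noncomputable section

universe u

open CategoryTheory CategoryTheory.Limits AlgebraicGeometry TopologicalSpace Opposite
open scoped HomogeneousIdeal
open RelProj

namespace Groth.Agent.RelProjLib

variable {S : Scheme.{u}} {𝒮 : QCGrAlg S} {P : Scheme.{u}} {p : P ⟶ S}
  {chart : ∀ (U : S.Opens) (hU : IsAffineOpen U), (((p ⁻¹ᵁ U : P.Opens) : Scheme.{u}) ≅ Proj (𝒮.deg U hU))}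

lemma emb_opensRange (U : S.Opens) (hU : IsAffineOpen U) :
    (emb p chart U hU).opensRange = p ⁻¹ᵁ U := by
  exact (Scheme.Hom.opensRange_comp_of_isIso (chart U hU).inv (p ⁻¹ᵁ U).ι).trans (Scheme.Opens.opensRange_ι _)

lemma chart_hom_emb (U : S.Opens) (hU : IsAffineOpen U) :
    (chart U hU).hom ≫ emb p chart U hU = (p ⁻¹ᵁ U).ι := by
  simp [emb]

lemma emb_comp (hP : IsRelProj 𝒮 p chart) (U : S.Opens) (hU : IsAffineOpen U) :
    emb p chart U hU ≫ p =
      Proj.toSpecZero (𝒮.deg U hU) ≫ Spec.map (𝒮.strZero U hU) ≫ hU.fromSpec := by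
  rw [emb, Category.assoc, ← hP.chart_over U hU, Iso.inv_hom_id_assoc]

lemma exists_emb_apply_eq (x : P) :
    ∃ (U : S.Opens) (hU : IsAffineOpen U) (y : Proj (𝒮.deg U hU)), emb p chart U hU y = x := by
  obtain ⟨U, hU, hx, -⟩ := (Scheme.isBasis_affineOpens S).exists_subset_of_mem_open
    (show p x ∈ (⊤ : S.Opens) from trivial) isOpen_univ
  obtain ⟨U, hU, rfl⟩ := hU
  replace hU : IsAffineOpen U := hU
  have : x ∈ (emb p chart U hU).opensRange := by rw [emb_opensRange]; exact hx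
  obtain ⟨y, hy⟩ := this
  exact ⟨U, hU, y, hy⟩

/-- The open cover of a relative Proj by its charts. -/
def embCover (p : P ⟶ S)
    (chart : ∀ (U : S.Opens) (hU : IsAffineOpen U), (((p ⁻¹ᵁ U : P.Opens) : Scheme.{u}) ≅ Proj (𝒮.deg U hU))) :
    P.OpenCover :=
  Scheme.Cover.mkOfCovers {U : S.Opens // IsAffineOpen U} (fun U => Proj (𝒮.deg U.1 U.2))
    (fun U => emb p chart U.1 U.2) (fun x => by
      obtain ⟨U, hU, y, hy⟩ := exists_emb_apply_eq (p := p) (chart := chart) x
      exact ⟨⟨U, hU⟩, y, hy⟩)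

lemma hom_ext {Z : Scheme.{u}} {g g' : P ⟶ Z}
    (h : ∀ (U : S.Opens) (hU : IsAffineOpen U), emb p chart U hU ≫ g = emb p chart U hU ≫ g') :
    g = g' :=
  Scheme.Cover.hom_ext (embCover p chart) _ _ fun U => h U.1 U.2

lemma hom_ext_ι {Z : Scheme.{u}} {g g' : P ⟶ Z}
    (chart : ∀ (U : S.Opens) (hU : IsAffineOpen U), (((p ⁻¹ᵁ U : P.Opens) : Scheme.{u}) ≅ Proj (𝒮.deg U hU)))
    (h : ∀ (U : S.Opens), IsAffineOpen U → (p ⁻¹ᵁ U).ι ≫ g = (p ⁻¹ᵁ U).ι ≫ g') :
    g = g' :=
  hom_ext (chart := chart) fun U hU => by simp only [emb, Category.assoc, h U hU]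

/-- For `W = D(r)` a basic open of `U`, the restriction morphism of charts `Proj 𝒮(W) ⟶ Proj 𝒮(U)`. -/
lemma exists_transition (hP : IsRelProj 𝒮 p chart) {U : S.Opens} (hU : IsAffineOpen U) (r : Γ(S, U))
    (W : S.Opens) (hW : IsAffineOpen W) (e : S.basicOpen r = W) :
    ∃ t : Proj (𝒮.deg W hW) ⟶ Proj (𝒮.deg U hU), t ≫ emb p chart U hU = emb p chart W hW ∧
      ∀ {Z : Scheme.{u}} (g : ∀ (U : S.Opens) (hU : IsAffineOpen U), Proj (𝒮.deg U hU) ⟶ Z),
        (Proj.map (𝒮.res hU (hU.basicOpen r) (S.basicOpen_le r)) (𝒮.irrelevant_le_map U hU r) ≫ g U hU =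
          g (S.basicOpen r) (hU.basicOpen r)) → t ≫ g U hU = g W hW := by
  subst e
  exact ⟨_, map_res_emb hP U hU r, fun _ h => h⟩

lemma agree (hP : IsRelProj 𝒮 p chart) {Z : Scheme.{u}}
    (g : ∀ (U : S.Opens) (hU : IsAffineOpen U), Proj (𝒮.deg U hU) ⟶ Z)
    (hg : ∀ (U : S.Opens) (hU : IsAffineOpen U) (r : Γ(S, U)),
      Proj.map (𝒮.res hU (hU.basicOpen r) (S.basicOpen_le r)) (𝒮.irrelevant_le_map U hU r) ≫ g U hU =
        g (S.basicOpen r) (hU.basicOpen r))
    (U : S.Opens) (hU : IsAffineOpen U) (V : S.Opens) (hV : IsAffineOpen V) :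
    pullback.fst (emb p chart U hU) (emb p chart V hV) ≫ g U hU =
      pullback.snd (emb p chart U hU) (emb p chart V hV) ≫ g V hV := by
  let q := pullback.fst (emb p chart U hU) (emb p chart V hV) ≫ emb p chart U hU
  refine Scheme.hom_ext_of_forall _ _ fun x => ?_
  have hxU : p (q x) ∈ U := by
    have h : q x ∈ (emb p chart U hU).opensRange := ⟨_, rfl⟩
    rwa [emb_opensRange] at h
  have hxV : p (q x) ∈ V := by
    have h : q x ∈ (emb p chart V hV).opensRange :=
      ⟨pullback.snd (emb p chart U hU) (emb p chart V hV) x, by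
        rw [← Scheme.Hom.comp_apply, ← pullback.condition]⟩
    rwa [emb_opensRange] at h
  obtain ⟨r, s, e, hx⟩ := exists_basicOpen_le_affine_inter hU hV (p (q x)) ⟨hxU, hxV⟩
  obtain ⟨tU, htU, hgU⟩ := exists_transition hP hU r (S.basicOpen r) (hU.basicOpen r) rfl
  obtain ⟨tV, htV, hgV⟩ := exists_transition hP hV s (S.basicOpen r) (hU.basicOpen r) e.symm
  refine ⟨q ⁻¹ᵁ (p ⁻¹ᵁ S.basicOpen r), hx, ?_⟩
  let W := q ⁻¹ᵁ (p ⁻¹ᵁ S.basicOpen r)
  have hr : Set.range (W.ι ≫ q) ⊆ Set.range (emb p chart (S.basicOpen r) (hU.basicOpen r)) := by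
    rintro _ ⟨y, rfl⟩
    have h : q (W.ι y) ∈ (emb p chart (S.basicOpen r) (hU.basicOpen r)).opensRange := by
      rw [emb_opensRange]; exact y.2
    exact h
  let k := IsOpenImmersion.lift (emb p chart (S.basicOpen r) (hU.basicOpen r)) (W.ι ≫ q) hr
  have hk : k ≫ emb p chart (S.basicOpen r) (hU.basicOpen r) = W.ι ≫ q := IsOpenImmersion.lift_fac _ _ _
  have h1 : k ≫ tU = W.ι ≫ pullback.fst (emb p chart U hU) (emb p chart V hV) := by
    rw [← cancel_mono (emb p chart U hU), Category.assoc, htU, hk, Category.assoc]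
  have h2 : k ≫ tV = W.ι ≫ pullback.snd (emb p chart U hU) (emb p chart V hV) := by
    rw [← cancel_mono (emb p chart V hV), Category.assoc, htV, hk, Category.assoc]
    simp only [q, pullback.condition]
  change W.ι ≫ _ = W.ι ≫ _
  rw [← reassoc_of% h1, ← reassoc_of% h2, hgU g (hg U hU r), hgV g (hg V hV s)]

/-- Morphisms out of a relative Proj are glued from the charts. -/
lemma existsUnique_glue (hP : IsRelProj 𝒮 p chart) {Z : Scheme.{u}}
    (g : ∀ (U : S.Opens) (hU : IsAffineOpen U), Proj (𝒮.deg U hU) ⟶ Z)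
    (hg : ∀ (U : S.Opens) (hU : IsAffineOpen U) (r : Γ(S, U)),
      Proj.map (𝒮.res hU (hU.basicOpen r) (S.basicOpen_le r)) (𝒮.irrelevant_le_map U hU r) ≫ g U hU =
        g (S.basicOpen r) (hU.basicOpen r)) :
    ∃! G : P ⟶ Z, ∀ (U : S.Opens) (hU : IsAffineOpen U), emb p chart U hU ≫ G = g U hU :=
  ⟨Scheme.Cover.glueMorphisms (embCover p chart) (fun U => g U.1 U.2)
      (fun U V => agree hP g hg U.1 U.2 V.1 V.2),
    fun U hU => Scheme.Cover.ι_glueMorphisms (embCover p chart) _ _ ⟨U, hU⟩,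
    fun G hG => Scheme.Cover.hom_ext (embCover p chart) _ _ fun U =>
      (hG U.1 U.2).trans (Scheme.Cover.ι_glueMorphisms (embCover p chart) (fun U => g U.1 U.2)
        (fun U V => agree hP g hg U.1 U.2 V.1 V.2) U).symm⟩

/-- A property of morphisms local on the target holds for the structure morphism of a relative Proj
as soon as it holds for the charts. -/
lemma property_of_charts (P' : MorphismProperty Scheme.{u}) [IsZariskiLocalAtTarget P']
    (hP : IsRelProj 𝒮 p chart)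
    (h : ∀ (U : S.Opens) (hU : IsAffineOpen U),
      P' (Proj.toSpecZero (𝒮.deg U hU) ≫ Spec.map (𝒮.strZero U hU))) : P' p := by
  rw [IsZariskiLocalAtTarget.iff_of_iSup_eq_top (P := P') _ (iSup_affineOpens_eq_top S)]
  rintro ⟨U, hU'⟩
  have hU : IsAffineOpen U := hU'
  have e : (p ∣_ U) =
      (chart U hU).hom ≫ (Proj.toSpecZero (𝒮.deg U hU) ≫ Spec.map (𝒮.strZero U hU)) ≫
        hU.isoSpec.inv := by
    rw [← cancel_mono U.ι, morphismRestrict_ι, ← hP.chart_over U hU]
    simp only [Category.assoc, IsAffineOpen.isoSpec_inv_ι]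
  show P' (p ∣_ U)
  rw [e, MorphismProperty.cancel_left_of_respectsIso P', MorphismProperty.cancel_right_of_respectsIso P']
  exact h U hU

end Groth.Agent.RelProjLib
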