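import Groth.Agent.RelProjLib.Preimage
import Groth.Agent.RelProjLib.QBaseChange
import Groth.Agent.SymLib.InvProj
import Groth.Agent.RelProjLib.Integral

/-! The morphism `r_{L,ψ}` over a standard open `D_+(s)` of an affine base, and immersion criteria. -/

noncomputable section

universe u

open CategoryTheory CategoryTheory.Limits AlgebraicGeometry TopologicalSpace Opposite
open scoped HomogeneousIdeal
open RelProj

namespace Groth.Agent.RelProjLib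

lemma surjective_of_isClosedImmersion_specMap {R S : CommRingCat.{u}} (φ : R ⟶ S)
    [IsClosedImmersion (Spec.map φ)] : Function.Surjective φ.hom := by
  have h := (IsClosedImmersion.isAffine_surjective_of_isAffine (Spec.map φ)).2
  intro s
  obtain ⟨a, ha⟩ := h ((Scheme.ΓSpecIso S).inv s)
  refine ⟨(Scheme.ΓSpecIso R).hom a, ?_⟩
  have e := congr($(Scheme.ΓSpecIso_naturality φ).hom a)
  simp only [CommRingCat.hom_comp, RingHom.comp_apply] at e
  rw [← e]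
  show (Scheme.ΓSpecIso S).hom ((Spec.map φ).appTop a) = s
  rw [ha, Iso.inv_hom_id_apply]

/-- Restricting to an open inside the open through which a morphism factors. -/
lemma restrict_iff_of_factor (P' : MorphismProperty Scheme.{u}) [P'.RespectsIso] {X P : Scheme.{u}}
    (W : P.Opens) (l : X ⟶ W) {r : X ⟶ P} (h : l ≫ W.ι = r) {D : P.Opens} (hD : D ≤ W) :
    P' (r ∣_ D) ↔ P' (l ∣_ (W.ι ⁻¹ᵁ D)) := by
  subst h
  rw [morphismRestrict_comp]
  have : Surjective (W.ι ∣_ D) := ⟨fun x => by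
    refine ⟨⟨⟨x.1, hD x.2⟩, x.2⟩, ?_⟩
    apply D.ι.isOpenEmbedding.injective
    rw [← Scheme.Hom.comp_apply, morphismRestrict_ι]
    rfl⟩
  have : IsIso (W.ι ∣_ D) := (isIso_iff_isOpenImmersion_and_surjective _).2 ⟨inferInstance, inferInstance⟩
  exact P'.cancel_right_of_respectsIso _ _

section transfer

variable {S : Scheme.{u}} (𝒮 : QCGrAlg S) {P : Scheme.{u}} {p : P ⟶ S}
  {chart : ∀ (U : S.Opens) (hU : IsAffineOpen U), (((p ⁻¹ᵁ U : P.Opens) : Scheme.{u}) ≅ Proj (𝒮.deg U hU))}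

lemma notMem_transfer (hP : IsRelProj 𝒮 p chart) {U V : S.Opens} (hU : IsAffineOpen U) (hV : IsAffineOpen V)
    (i : V ≤ U) {y : Proj (𝒮.deg U hU)} {z : Proj (𝒮.deg V hV)}
    (h : emb p chart V hV z = emb p chart U hU y) (a : 𝒮.presheaf.obj (op U)) :
    a ∉ y.asHomogeneousIdeal ↔ (𝒮.presheaf.map (homOfLE i).op).hom a ∉ z.asHomogeneousIdeal := by
  rw [← map_res_emb_affine 𝒮 hP hU hV i, Scheme.Hom.comp_apply] at h
  obtain rfl := (emb p chart U hU).isOpenEmbedding.injective h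
  rfl

lemma emb_mem_base (U : S.Opens) (hU : IsAffineOpen U) (y : Proj (𝒮.deg U hU)) : p (emb p chart U hU y) ∈ U := by
  have h : emb p chart U hU y ∈ (emb p chart U hU).opensRange := ⟨y, rfl⟩
  rwa [emb_opensRange] at h

lemma exists_emb_eq {U : S.Opens} (hU : IsAffineOpen U) {x : P} (hx : p x ∈ U) :
    ∃ y, emb p chart U hU y = x := by
  have h : x ∈ (emb p chart U hU).opensRange := by rw [emb_opensRange]; exact hx
  exact h

/-- If `r ∉ y` then the point lies over `D(r)`. -/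
lemma mem_basicOpen_of_notMem (hP : IsRelProj 𝒮 p chart) {U : S.Opens} (hU : IsAffineOpen U) (r : Γ(S, U))
    (y : Proj (𝒮.deg U hU)) (hy : (𝒮.str.app (op U)).hom r ∉ y.asHomogeneousIdeal) :
    p (emb p chart U hU y) ∈ S.basicOpen r := by
  have hWV := isAwayZero_res 𝒮 U hU r
  have hOI := isOpenImmersion_map_of_isAwayZero hWV (𝒮.irrelevant_le_map U hU r)
  obtain ⟨w, rfl⟩ : y ∈ (Proj.map (𝒮.res hU (hU.basicOpen r) (S.basicOpen_le r))
      (𝒮.irrelevant_le_map U hU r)).opensRange := by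
    rw [opensRange_map_of_isAwayZero hWV]; exact hy
  have e := congr($(map_res_emb hP U hU r) w)
  rw [Scheme.Hom.comp_apply] at e
  rw [show emb p chart U hU _ = _ from e]
  exact emb_mem_base 𝒮 _ _ w

end transfer

variable {X Y : Scheme.{u}} {q : X ⟶ Y} {𝒮 : QCGrAlg Y} {𝒮L : QCGrAlg X} (u : QGrHom q 𝒮 𝒮L)

/-- The value of `u` on a global section, on an open of `X`. -/
abbrev uTop (V : X.Opens) : 𝒮.presheaf.obj (op (⊤ : Y.Opens)) →+* 𝒮L.presheaf.obj (op V) :=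
  (u.appLE ⊤ V (le_top.trans (Scheme.Hom.preimage_top q).ge)).hom

/-- The open where `u s` generates the degree-`d` piece. -/
abbrev Xs (d : ℕ) (s : 𝒮.presheaf.obj (op (⊤ : Y.Opens))) : X.Opens :=
  ⨆ V : {V : X.affineOpens //
    ((𝒮L.deg V.1 V.2 d : AddSubgroup (𝒮L.presheaf.obj (op (V.1 : X.Opens)))) : Set (𝒮L.presheaf.obj (op (V.1 : X.Opens)))) ⊆
      (Ideal.span {uTop u (V.1 : X.Opens) s} : Set (𝒮L.presheaf.obj (op (V.1 : X.Opens))))},
    (V.1.1 : X.Opens)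

variable {L : X.Modules} [L.IsQuasicoherent] {j : L ⟶ 𝒮L.toModule} {PL : Scheme.{u}} {pL : PL ⟶ X}
  {chartL : ∀ (U : X.Opens) (hU : IsAffineOpen U), (((pL ⁻¹ᵁ U : PL.Opens) : Scheme.{u}) ≅ Proj (𝒮L.deg U hU))}

lemma uTop_res {V W : X.Opens} (i : W ≤ V) (s : 𝒮.presheaf.obj (op (⊤ : Y.Opens))) :
    (𝒮L.presheaf.map (homOfLE i).op).hom (uTop u V s) = uTop u W s := by
  show _ = (u.appLE ⊤ W _).hom s
  rw [← u.toQHom.appLE_map (le_top.trans (Scheme.Hom.preimage_top q).ge) i]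
  rfl

lemma notMem_indep (hPL : IsRelProj 𝒮L pL chartL) {V V' : X.Opens} (hV : IsAffineOpen V) (hV' : IsAffineOpen V')
    {w : Proj (𝒮L.deg V hV)} {w' : Proj (𝒮L.deg V' hV')} (h : emb pL chartL V hV w = emb pL chartL V' hV' w')
    (s : 𝒮.presheaf.obj (op (⊤ : Y.Opens))) :
    uTop u V s ∉ w.asHomogeneousIdeal ↔ uTop u V' s ∉ w'.asHomogeneousIdeal := by
  have h1 := emb_mem_base 𝒮L (p := pL) (chart := chartL) V hV w
  have h2 := emb_mem_base 𝒮L (p := pL) (chart := chartL) V' hV' w'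
  rw [← h] at h2
  obtain ⟨_, ⟨W, hW, rfl⟩, hxW, hWle⟩ := X.isBasis_affineOpens.exists_subset_of_mem_open
    (show pL (emb pL chartL V hV w) ∈ (V : Set X) ∩ V' from ⟨h1, h2⟩) (V.2.inter V'.2)
  obtain ⟨z, hz⟩ := exists_emb_eq 𝒮L (p := pL) (chart := chartL) hW hxW
  rw [notMem_transfer 𝒮L hPL hV hW (fun a ha => (hWle ha).1) hz,
    notMem_transfer 𝒮L hPL hV' hW (fun a ha => (hWle ha).2) (hz.trans h), uTop_res, uTop_res]

/-- Generation of the degree-`d` piece passes to basic opens. -/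
lemma deg_subset_span_basicOpen {d : ℕ} (s : 𝒮.presheaf.obj (op (⊤ : Y.Opens))) {V : X.Opens} (hV : IsAffineOpen V)
    (h : ((𝒮L.deg V hV d : AddSubgroup (𝒮L.presheaf.obj (op V))) : Set (𝒮L.presheaf.obj (op V))) ⊆
      (Ideal.span {uTop u V s} : Set (𝒮L.presheaf.obj (op V)))) (c : Γ(X, V)) :
    ((𝒮L.deg (X.basicOpen c) (hV.basicOpen c) d : AddSubgroup _) : Set (𝒮L.presheaf.obj (op (X.basicOpen c)))) ⊆
      (Ideal.span {uTop u (X.basicOpen c) s} : Set (𝒮L.presheaf.obj (op (X.basicOpen c)))) := by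
  intro b hb
  have hA := isAwayZero_res 𝒮L V hV c
  obtain ⟨a, k, hak⟩ := hA.surj b
  have hk : b * 𝒮L.res hV (hV.basicOpen c) (X.basicOpen_le c) ((𝒮L.str.app (op V)).hom c) ^ k ∈
      𝒮L.deg (X.basicOpen c) (hV.basicOpen c) d := by
    have := SetLike.mul_mem_graded (A := 𝒮L.deg (X.basicOpen c) (hV.basicOpen c)) hb
      (SetLike.pow_mem_graded (A := 𝒮L.deg (X.basicOpen c) (hV.basicOpen c)) k
        ((𝒮L.res hV (hV.basicOpen c) (X.basicOpen_le c)).2 (𝒮L.str_mem V hV c)))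
    rwa [smul_zero, add_zero] at this
  have hd' : 𝒮L.res hV (hV.basicOpen c) (X.basicOpen_le c) (DirectSum.decompose (𝒮L.deg V hV) a d) =
      b * 𝒮L.res hV (hV.basicOpen c) (X.basicOpen_le c) ((𝒮L.str.app (op V)).hom c) ^ k := by
    rw [GradedRingHom.map_directSumDecompose, ← hak]
    exact DirectSum.decompose_of_mem_same _ hk
  obtain ⟨t, ht⟩ := Ideal.mem_span_singleton'.1 (h (SetLike.coe_mem (DirectSum.decompose (𝒮L.deg V hV) a d)))
  obtain ⟨v, hv⟩ := isUnit_iff_exists_inv.1 (hA.isUnit.pow k)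
  refine Ideal.mem_span_singleton'.2 ⟨𝒮L.res hV (hV.basicOpen c) (X.basicOpen_le c) t * v, ?_⟩
  rw [← uTop_res u (X.basicOpen_le c) s, ← 𝒮L.res_apply hV (hV.basicOpen c), mul_right_comm, ← map_mul, ht, hd',
    mul_assoc]
  exact (congrArg (b * ·) hv).trans (mul_one b)

lemma mem_Xs_iff (hj : IsGrSymAlg L 𝒮L j) (hL : PicF.IsInvertible L) (hPL : IsRelProj 𝒮L pL chartL) {d : ℕ}
    {s : 𝒮.presheaf.obj (op (⊤ : Y.Opens))} (hY : IsAffineOpen (⊤ : Y.Opens))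
    (hs : s ∈ 𝒮.deg ⊤ hY d) (x : PL) :
    pL x ∈ Xs u d s ↔ ∃ (V : X.Opens) (hV : IsAffineOpen V) (w : Proj (𝒮L.deg V hV)),
      emb pL chartL V hV w = x ∧ uTop u V s ∉ w.asHomogeneousIdeal := by
  obtain ⟨U₀, hx₀, ⟨φ⟩⟩ := hL (pL x)
  obtain ⟨e, he⟩ := LFFrame.exists_isFrame_of_split (M := L) (fun _ : Fin 1 => φ.inv) (fun _ => φ.hom)
    (fun i j => by simp [Subsingleton.elim i j]) (by simp)
  constructor
  · intro hx
    obtain ⟨⟨⟨V, hV⟩, hgen⟩, hxV⟩ := Opens.mem_iSup.1 hx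
    obtain ⟨c, hcle, hxc⟩ := hV.exists_basicOpen_le (V := U₀) ⟨pL x, hx₀⟩ hxV
    obtain ⟨w, hw⟩ := exists_emb_eq 𝒮L (p := pL) (chart := chartL) (hV.basicOpen c) hxc
    refine ⟨_, hV.basicOpen c, w, hw, fun hm => ?_⟩
    refine SymLib.notMem_asHomogeneousIdeal hj (hV.basicOpen c) he hcle w (w.isPrime.mem_of_pow_mem d ?_)
    have hsub := deg_subset_span_basicOpen u s hV hgen c
    have hg1 := SetLike.pow_mem_graded (A := 𝒮L.deg _ (hV.basicOpen c)) d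
      (SymLib.genOne_mem hj (hV.basicOpen c) he hcle)
    rw [smul_eq_mul, mul_one] at hg1
    exact (Ideal.span_singleton_le_iff_mem _).2 hm (hsub hg1)
  · rintro ⟨V, hV, w, rfl, hw⟩
    obtain ⟨_, ⟨W, hW, rfl⟩, hxW, hWle⟩ := X.isBasis_affineOpens.exists_subset_of_mem_open
      (show pL (emb pL chartL V hV w) ∈ (V : Set X) ∩ U₀ from ⟨emb_mem_base 𝒮L V hV w, hx₀⟩) (V.2.inter U₀.2)
    obtain ⟨z, hz⟩ := exists_emb_eq 𝒮L (p := pL) (chart := chartL) hW hxW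
    have hzs := (notMem_indep u hPL hV hW hz.symm s).1 hw
    have hWU : W ≤ U₀ := fun a ha => (hWle ha).2
    obtain ⟨c, hc, -⟩ := SymLib.existsUnique_genOne hj hW he hWU
      (u.map_mem ⊤ hY W hW (le_top.trans (Scheme.Hom.preimage_top q).ge) hs)
    have hc' : uTop u W s = _ := hc
    have hzc : (𝒮L.str.app (op W)).hom c ∉ z.asHomogeneousIdeal := fun hm =>
      hzs (hc' ▸ Ideal.mul_mem_right _ _ hm)
    have hxc := mem_basicOpen_of_notMem 𝒮L hPL hW c z hzc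
    rw [hz] at hxc
    refine Opens.mem_iSup.2 ⟨⟨⟨X.basicOpen c, hW.basicOpen c⟩, fun b hb => ?_⟩, hxc⟩
    obtain ⟨a, ha, -⟩ := SymLib.existsUnique_genOne hj (hW.basicOpen c) he ((X.basicOpen_le c).trans hWU) hb
    have hgen : (𝒮L.presheaf.map (homOfLE (X.basicOpen_le c)).op).hom (SymLib.genOne hWU hj he) =
        SymLib.genOne ((X.basicOpen_le c).trans hWU) hj he := by
      simp only [SymLib.genOne]
      refine (QCoh.app_res j (X.basicOpen_le c) _).symm.trans ?_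
      congr 1
      rw [← ConcreteCategory.comp_apply, ← Functor.map_comp]
      rfl
    have hu : uTop u (X.basicOpen c) s =
        (𝒮L.str.app (op (X.basicOpen c))).hom ((X.presheaf.map (homOfLE (X.basicOpen_le c)).op).hom c) *
          SymLib.genOne ((X.basicOpen_le c).trans hWU) hj he ^ d := by
      rw [← uTop_res u (X.basicOpen_le c) s, hc', map_mul, map_pow, hgen]
      congr 1
      exact congr($(𝒮L.str.naturality (homOfLE (X.basicOpen_le c)).op).hom c).symm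
    let c' : Γ(X, X.basicOpen c) := (X.presheaf.map (homOfLE (X.basicOpen_le c)).op).hom c
    obtain ⟨v, hv⟩ : ∃ v : Γ(X, X.basicOpen c), c' * v = 1 :=
      isUnit_iff_exists_inv.1 (RingedSpace.isUnit_res_basicOpen _ c)
    refine Ideal.mem_span_singleton'.2 ⟨(𝒮L.str.app (op (X.basicOpen c))).hom (a * v), ?_⟩
    rw [hu, ← mul_assoc, ← map_mul, mul_assoc a, mul_comm v]
    change (𝒮L.str.app (op (X.basicOpen c))).hom (a * (c' * v)) * _ = _
    rw [hv, mul_one]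
    exact ha.symm

variable {P : Scheme.{u}} {p : P ⟶ Y}
  {chart : ∀ (U : Y.Opens) (hU : IsAffineOpen U), (((p ⁻¹ᵁ U : P.Opens) : Scheme.{u}) ≅ Proj (𝒮.deg U hU))}
  (r : ((domQ u pL chartL : PL.Opens) : Scheme.{u}) ⟶ P)
  (hr : IsProjQMapOn u p chart pL chartL (domQ u pL chartL) r)
  (hj : IsGrSymAlg L 𝒮L j) (hL : PicF.IsInvertible L) (hP : IsRelProj 𝒮 p chart) (hPL : IsRelProj 𝒮L pL chartL)
  (hY : IsAffineOpen (⊤ : Y.Opens)) {d : ℕ} (hd : 0 < d) {s : 𝒮.presheaf.obj (op (⊤ : Y.Opens))}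
  (hs : s ∈ 𝒮.deg ⊤ hY d)

include hr hj hL hP hPL hd hs in
/-- `r⁻¹ D_+(s)` is `X_{u s}`. -/
lemma mem_preimage_iff_mem_Xs (x : PL) :
    (∃ hx : x ∈ domQ u pL chartL, r ⟨x, hx⟩ ∈ emb p chart ⊤ hY ''ᵁ Proj.basicOpen (𝒮.deg ⊤ hY) s) ↔
      pL x ∈ Xs u d s := by
  rw [mem_Xs_iff u hj hL hPL hY hs]
  constructor
  · rintro ⟨hx, hxm⟩
    obtain ⟨_, ⟨V, hV, rfl⟩, hxV, -⟩ :=
      X.isBasis_affineOpens.exists_subset_of_mem_open (Set.mem_univ (pL x)) isOpen_univ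
    obtain ⟨w, rfl⟩ := exists_emb_eq 𝒮L (p := pL) (chart := chartL) hV hxV
    exact ⟨V, hV, w, rfl, (mem_preimage_basicOpen_iff u p pL hP hPL hr hY hV
      (le_top.trans (Scheme.Hom.preimage_top q).ge) hd hs w).1 ⟨_, hxm, rfl⟩⟩
  · rintro ⟨V, hV, w, rfl, hw⟩
    obtain ⟨⟨x', hx'⟩, hxm, hxe⟩ := (mem_preimage_basicOpen_iff u p pL hP hPL hr hY hV
      (le_top.trans (Scheme.Hom.preimage_top q).ge) hd hs w).2 hw
    obtain rfl : x' = _ := hxe
    exact ⟨hx', hxm⟩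

include hr hj hL hP hPL hd hs in
lemma isAffineOpen_Xs
    (h : IsAffineOpen (r ⁻¹ᵁ (emb p chart ⊤ hY ''ᵁ Proj.basicOpen (𝒮.deg ⊤ hY) s))) :
    IsAffineOpen (Xs u d s) := by
  have : IsIso pL := SymLib.isIso_proj hj hL hPL
  convert (h.image_of_isOpenImmersion (domQ u pL chartL).ι).image_of_isOpenImmersion pL using 1
  ext x
  obtain ⟨x, rfl⟩ : ∃ z, pL z = x := ⟨inv pL x, by rw [← Scheme.Hom.comp_apply, IsIso.inv_hom_id]; rfl⟩
  refine (mem_preimage_iff_mem_Xs u r hr hj hL hP hPL hY hd hs x).symm.trans ⟨?_, ?_⟩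
  · rintro ⟨hx, hm⟩
    exact ⟨x, ⟨⟨x, hx⟩, hm, rfl⟩, rfl⟩
  · rintro ⟨z, ⟨z', hz', rfl⟩, hz⟩
    obtain rfl := pL.isOpenEmbedding.injective hz
    exact ⟨z'.2, hz'⟩

include hj hL hPL hs in
/-- On an affine `X_{u s}` functions are `𝒮L_{(u s)}`. -/
lemma zeroToAway_bijective_of_affine (hd : 0 < d) (hV : IsAffineOpen (Xs u d s)) :
    Function.Bijective (zeroToAway (𝒜 := 𝒮L.deg (Xs u d s) hV) (𝒮L.str.app (op (Xs u d s))).hom
      (𝒮L.str_mem _ hV) (uTop u (Xs u d s) s)) := by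
  have : IsIso pL := SymLib.isIso_proj hj hL hPL
  have hus : uTop u (Xs u d s) s ∈ 𝒮L.deg (Xs u d s) hV d :=
    u.map_mem ⊤ hY _ hV (le_top.trans (Scheme.Hom.preimage_top q).ge) hs
  let a := Proj.awayι (𝒮L.deg (Xs u d s) hV) (uTop u (Xs u d s) s) hus hd
  have : Surjective a := ⟨fun y => (Proj.opensRange_awayι (𝒮L.deg (Xs u d s) hV) _ hus hd).ge (by
    obtain ⟨V, hV', w, hw, hws⟩ := (mem_Xs_iff u hj hL hPL hY hs (emb pL chartL _ hV y)).1
      (emb_mem_base 𝒮L _ hV y)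
    exact (notMem_indep u hPL hV' hV hw s).1 hws)⟩
  have : IsIso a := (isIso_iff_isOpenImmersion_and_surjective _).2 ⟨inferInstance, inferInstance⟩
  have : IsIso (Proj.toSpecZero (𝒮L.deg (Xs u d s) hV) ≫ Spec.map (𝒮L.strZero (Xs u d s) hV)) := by
    have e : Proj.toSpecZero (𝒮L.deg (Xs u d s) hV) ≫ Spec.map (𝒮L.strZero (Xs u d s) hV) =
        (chartL _ hV).inv ≫ (pL ∣_ Xs u d s) ≫ hV.isoSpec.hom := by
      rw [← cancel_mono hV.fromSpec]
      simp only [Category.assoc, IsAffineOpen.isoSpec_hom_fromSpec, morphismRestrict_ι]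
      rw [← hPL.chart_over _ hV, Iso.inv_hom_id_assoc]
    rw [e]
    infer_instance
  have h2 : IsIso (Spec.map (CommRingCat.ofHom (zeroToAway (𝒜 := 𝒮L.deg (Xs u d s) hV)
      (𝒮L.str.app (op (Xs u d s))).hom (𝒮L.str_mem _ hV) (uTop u (Xs u d s) s)))) := by
    have e : a ≫ Proj.toSpecZero (𝒮L.deg (Xs u d s) hV) ≫ Spec.map (𝒮L.strZero (Xs u d s) hV) =
        Spec.map (CommRingCat.ofHom (zeroToAway (𝒜 := 𝒮L.deg (Xs u d s) hV)
          (𝒮L.str.app (op (Xs u d s))).hom (𝒮L.str_mem _ hV) (uTop u (Xs u d s) s))) := by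
      rw [Proj.awayι_toSpecZero_assoc, ← Spec.map_comp]
      rfl
    rw [← e]
    infer_instance
  exact isIso_SpecMap_iff.1 h2

/-- `𝒮_{(s)} → 𝒮L_{(u s)}` over the affine open `X_{u s}`. -/
abbrev awayMapXs (hV : IsAffineOpen (Xs u d s)) :=
  HomogeneousLocalization.Away.map
    (u.gradedAt ⊤ hY (Xs u d s) hV (le_top.trans (Scheme.Hom.preimage_top q).ge)) s

include hr hj hL hP hPL hd hs in
/-- `r` over `D_+(s)` is `Spec` of `𝒮_{(s)} → Γ(X_{u s})`. -/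
lemma restrict_iff (P' : MorphismProperty Scheme.{u}) [P'.RespectsIso] (hV : IsAffineOpen (Xs u d s)) :
    P' (r ∣_ (emb p chart ⊤ hY ''ᵁ Proj.basicOpen (𝒮.deg ⊤ hY) s)) ↔
      P' (Spec.map (CommRingCat.ofHom (awayMapXs u hY hV))) := by
  let i : ChartIdx (g := q) (𝒮 := 𝒮) :=
    ⟨⊤, hY, Xs u d s, hV, le_top.trans (Scheme.Hom.preimage_top q).ge, d, hd, s, hs⟩
  have hOI := isOpenImmersion_e u pL chartL i
  have hW := range_awayEmb_subset_domQ u pL chartL i.U i.hU i.U' i.hU' i.hle i.hd i.f i.hf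
  let l := IsOpenImmersion.lift (domQ u pL chartL).ι (i.e u pL chartL) hW
  have hl : l ≫ (domQ u pL chartL).ι = i.e u pL chartL := IsOpenImmersion.lift_fac _ _ _
  have : IsOpenImmersion (l ≫ (domQ u pL chartL).ι) := by rw [hl]; infer_instance
  have : IsOpenImmersion l := IsOpenImmersion.of_comp l (domQ u pL chartL).ι
  let D := emb p chart ⊤ hY ''ᵁ Proj.basicOpen (𝒮.deg ⊤ hY) s
  let k := Proj.awayι (𝒮.deg ⊤ hY) s hs hd ≫ emb p chart ⊤ hY
  have hk : k.opensRange = D := by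
    rw [Scheme.Hom.opensRange_comp, Proj.opensRange_awayι]
  have hrange : r ⁻¹ᵁ k.opensRange = l.opensRange := by
    rw [hk]
    ext ⟨x, hx⟩
    constructor
    · intro hm
      have hX := (mem_preimage_iff_mem_Xs u r hr hj hL hP hPL hY hd hs x).1 ⟨hx, hm⟩
      obtain ⟨y, hy⟩ := exists_emb_eq 𝒮L (p := pL) (chart := chartL) hV hX
      obtain ⟨V, hV', w, hw, hws⟩ := (mem_Xs_iff u hj hL hPL hY hs x).1 hX
      obtain ⟨z, hz⟩ := (mem_range_e u pL chartL (i := i)).2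
        ⟨y, hy, (notMem_indep u hPL hV' hV (hw.trans hy.symm) s).1 hws⟩
      exact ⟨z, (domQ u pL chartL).ι.isOpenEmbedding.injective (by rw [← Scheme.Hom.comp_apply, hl]; exact hz)⟩
    · rintro ⟨z, hz⟩
      have hx' : pL x ∈ Xs u d s := by
        obtain ⟨y, hy, -⟩ := (mem_range_e u pL chartL (i := i)).1
          ⟨z, show i.e u pL chartL z = x by rw [← hl, Scheme.Hom.comp_apply, hz]; rfl⟩
        exact hy ▸ emb_mem_base 𝒮L _ hV y
      exact ((mem_preimage_iff_mem_Xs u r hr hj hL hP hPL hY hd hs x).2 hx').2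
  have sq : l ≫ r = Spec.map (CommRingCat.ofHom (awayMapXs u hY hV)) ≫ k := hr _ _ _ _ _ _ _ _ _ hW
  have pb := IsOpenImmersion.isPullback (Spec.map (CommRingCat.ofHom (awayMapXs u hY hV))) l k r sq hrange
  have e2 := isPullback_morphismRestrict r k.opensRange
  rw [show (emb p chart ⊤ hY ''ᵁ Proj.basicOpen (𝒮.deg ⊤ hY) s) = k.opensRange from hk.symm]
  exact (P'.arrow_mk_iso_iff (morphismRestrictOpensRange r k)).trans (P'.arrow_mk_iso_iff
    (Arrow.isoMk pb.flip.isoPullback.symm (Iso.refl _) (by simp)))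

/-- Condition (iii). -/
lemma surjective_iff (hd : 0 < d) (hj : IsGrSymAlg L 𝒮L j) (hL : PicF.IsInvertible L)
    (hPL : IsRelProj 𝒮L pL chartL) (hs : s ∈ 𝒮.deg ⊤ hY d) (hV : IsAffineOpen (Xs u d s)) :
    Function.Surjective (awayMapXs u hY hV) ↔
      ∀ t : X.presheaf.obj (op (Xs u d s)), ∃ (m : ℕ) (_ : 0 < m) (a : 𝒮.presheaf.obj (op (⊤ : Y.Opens)))
        (_ : a ∈ 𝒮.deg ⊤ hY (m * d)),
        (𝒮L.str.app (op (Xs u d s))).hom t * (uTop u (Xs u d s) s) ^ m = uTop u (Xs u d s) a := by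
  have hbij := zeroToAway_bijective_of_affine u hj hL hPL hY hs hd hV
  constructor
  · intro h t
    obtain ⟨z, hz⟩ := h (zeroToAway (𝒜 := 𝒮L.deg (Xs u d s) hV) (𝒮L.str.app (op (Xs u d s))).hom
      (𝒮L.str_mem _ hV) (uTop u (Xs u d s) s) t)
    obtain ⟨n, a, ha, rfl⟩ := HomogeneousLocalization.Away.mk_surjective (𝒮.deg ⊤ hY) hs z
    have h1 := congrArg HomogeneousLocalization.val hz
    rw [HomogeneousLocalization.Away.map_mk, HomogeneousLocalization.Away.val_mk] at h1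
    erw [val_zeroToAway] at h1
    rw [← Localization.mk_one_eq_algebraMap] at h1
    erw [Localization.mk_eq_mk_iff, Localization.r_iff_exists] at h1
    obtain ⟨⟨_, k, rfl⟩, hk⟩ := h1
    change uTop u (Xs u d s) s ^ k * (1 * uTop u (Xs u d s) a) = uTop u (Xs u d s) s ^ k *
      (uTop u (Xs u d s) s ^ n * (𝒮L.str.app (op (Xs u d s))).hom t) at hk
    refine ⟨n + k + 1, Nat.succ_pos _, a * s ^ (k + 1), ?_, ?_⟩
    · have := SetLike.mul_mem_graded (A := 𝒮.deg ⊤ hY) ha (SetLike.pow_mem_graded (A := 𝒮.deg ⊤ hY) (k + 1) hs)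
      convert this using 2
      simp [add_mul, smul_eq_mul]
      ring
    · rw [map_mul, map_pow, pow_succ _ k, ← mul_assoc (uTop u (Xs u d s) a),
        mul_comm (uTop u (Xs u d s) a) (uTop u (Xs u d s) s ^ k)]
      rw [one_mul] at hk
      rw [hk]
      ring
  · intro h z
    obtain ⟨t, rfl⟩ := hbij.2 z
    obtain ⟨m, -, a, ha, hm⟩ := h t
    refine ⟨HomogeneousLocalization.Away.mk _ hs m a (by simpa using ha),
      HomogeneousLocalization.val_injective _ ?_⟩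
    rw [HomogeneousLocalization.Away.map_mk, HomogeneousLocalization.Away.val_mk]
    erw [val_zeroToAway]
    rw [← Localization.mk_one_eq_algebraMap]
    erw [Localization.mk_eq_mk_iff, Localization.r_iff_exists]
    refine ⟨1, ?_⟩
    show (1 : 𝒮L.presheaf.obj (op (Xs u d s))) * (1 * uTop u (Xs u d s) a) =
      1 * (uTop u (Xs u d s) s ^ m * (𝒮L.str.app (op (Xs u d s))).hom t)
    rw [← hm]
    ring

/-- Condition (iv). -/
lemma injective_iff' (hd : 0 < d) (hs : s ∈ 𝒮.deg ⊤ hY d) (hV : IsAffineOpen (Xs u d s)) :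
    Function.Injective (awayMapXs u hY hV) ↔
      ∀ (m : ℕ), 0 < m → ∀ a ∈ 𝒮.deg ⊤ hY (m * d), uTop u (Xs u d s) a = 0 →
        ∃ k : ℕ, 0 < k ∧ s ^ k * a = 0 := by
  rw [injective_iff_map_eq_zero]
  constructor
  · intro h m _ a ha ha0
    have hz := h (HomogeneousLocalization.Away.mk _ hs m a (by simpa using ha))
      (HomogeneousLocalization.val_injective _ (by
        rw [HomogeneousLocalization.Away.map_mk, HomogeneousLocalization.Away.val_mk,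
          HomogeneousLocalization.val_zero]
        exact (congrArg (Localization.mk · _) ha0).trans (Localization.mk_zero _)))
    have h1 := congrArg HomogeneousLocalization.val hz
    rw [HomogeneousLocalization.Away.val_mk, HomogeneousLocalization.val_zero, ← Localization.mk_zero 1,
      Localization.mk_eq_mk_iff, Localization.r_iff_exists] at h1
    obtain ⟨⟨_, k, rfl⟩, hk⟩ := h1
    refine ⟨k + 1, k.succ_pos, ?_⟩
    simp only [OneMemClass.coe_one, one_mul, mul_zero] at hk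
    rw [pow_succ', mul_assoc, hk, mul_zero]
  · intro h z hz
    obtain ⟨n, a, ha, rfl⟩ := HomogeneousLocalization.Away.mk_surjective (𝒮.deg ⊤ hY) hs z
    have h1 := congrArg HomogeneousLocalization.val hz
    rw [HomogeneousLocalization.Away.map_mk, HomogeneousLocalization.Away.val_mk,
      HomogeneousLocalization.val_zero, ← Localization.mk_zero 1, Localization.mk_eq_mk_iff,
      Localization.r_iff_exists] at h1
    obtain ⟨⟨_, k, rfl⟩, hk⟩ := h1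
    simp only [OneMemClass.coe_one, one_mul, mul_zero] at hk
    have hmem : s ^ (k + 1) * a ∈ 𝒮.deg ⊤ hY ((k + 1 + n) * d) := by
      have := SetLike.mul_mem_graded (A := 𝒮.deg ⊤ hY) (SetLike.pow_mem_graded (A := 𝒮.deg ⊤ hY) (k + 1) hs) ha
      convert this using 2
      simp [add_mul]
    have hk' : uTop u (Xs u d s) s ^ k * uTop u (Xs u d s) a = 0 := hk
    obtain ⟨l, -, hl⟩ := h (k + 1 + n) (by omega) _ hmem (by
      rw [map_mul, map_pow, pow_succ', mul_assoc, hk', mul_zero])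
    refine HomogeneousLocalization.val_injective _ ?_
    rw [HomogeneousLocalization.Away.val_mk, HomogeneousLocalization.val_zero, ← Localization.mk_zero 1,
      Localization.mk_eq_mk_iff, Localization.r_iff_exists]
    exact ⟨⟨s ^ (l + (k + 1)), _, rfl⟩, by simp [pow_add, mul_assoc] at hl ⊢; exact hl⟩

include hr hj hL hP hPL in
/-- The (i)–(ii) part of the criteria, from a family to `r`. -/
lemma exists_factor (P' : MorphismProperty Scheme.{u}) [IsZariskiLocalAtTarget P'] {ι : Type u} (n : ι → ℕ)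
    (s : ι → 𝒮.presheaf.obj (op (⊤ : Y.Opens))) (hn : ∀ a, 0 < n a ∧ s a ∈ 𝒮.deg ⊤ hY (n a))
    (hcov : (⨆ a, Xs u (n a) (s a)) = ⊤) (haff : ∀ a, IsAffineOpen (Xs u (n a) (s a)))
    (hmap : ∀ a, P' (Spec.map (CommRingCat.ofHom (awayMapXs u hY (haff a))))) :
    domQ u pL chartL = ⊤ ∧ ∃ l : ((domQ u pL chartL : PL.Opens) : Scheme.{u}) ⟶
        ((⨆ a, emb p chart ⊤ hY ''ᵁ Proj.basicOpen (𝒮.deg ⊤ hY) (s a) : P.Opens) : Scheme.{u}),
      l ≫ (⨆ a, emb p chart ⊤ hY ''ᵁ Proj.basicOpen (𝒮.deg ⊤ hY) (s a) : P.Opens).ι = r ∧ P' l := by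
  have hmem : ∀ x : PL, ∃ a, ∃ hx : x ∈ domQ u pL chartL,
      r ⟨x, hx⟩ ∈ emb p chart ⊤ hY ''ᵁ Proj.basicOpen (𝒮.deg ⊤ hY) (s a) := fun x => by
    obtain ⟨a, ha⟩ := Opens.mem_iSup.1 (hcov.ge (Opens.mem_top (pL x)))
    exact ⟨a, (mem_preimage_iff_mem_Xs u r hr hj hL hP hPL hY (hn a).1 (hn a).2 x).2 ha⟩
  refine ⟨top_le_iff.1 fun x _ => (hmem x).choose_spec.1, ?_⟩
  set W : P.Opens := ⨆ a, emb p chart ⊤ hY ''ᵁ Proj.basicOpen (𝒮.deg ⊤ hY) (s a) with hW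
  let l := IsOpenImmersion.lift W.ι r (by
    rintro _ ⟨⟨x, hx⟩, rfl⟩
    rw [Scheme.Opens.range_ι]
    obtain ⟨a, _, ha⟩ := hmem x
    exact Opens.mem_iSup.2 ⟨a, ha⟩)
  have hl : l ≫ W.ι = r := IsOpenImmersion.lift_fac _ _ _
  refine ⟨l, hl, ?_⟩
  rw [IsZariskiLocalAtTarget.iff_of_iSup_eq_top (P := P')
    (fun a => W.ι ⁻¹ᵁ (emb p chart ⊤ hY ''ᵁ Proj.basicOpen (𝒮.deg ⊤ hY) (s a)))
    (top_le_iff.1 fun x _ => by
      obtain ⟨a, ha⟩ := Opens.mem_iSup.1 (show (x.1 : P) ∈ W from x.2)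
      exact Opens.mem_iSup.2 ⟨a, ha⟩)]
  intro a
  rw [← restrict_iff_of_factor P' W l hl
    (le_iSup (fun a => emb p chart ⊤ hY ''ᵁ Proj.basicOpen (𝒮.deg ⊤ hY) (s a)) a)]
  exact (restrict_iff u r hr hj hL hP hPL hY (hn a).1 (hn a).2 P' (haff a)).2 (hmap a)

include hr hj hL hP hPL in
/-- From `r` to a family. -/
lemma exists_family (hdom : domQ u pL chartL = ⊤) (W : P.Opens) (hrW : Set.range r ⊆ W)
    (haff : ∀ D : P.Opens, D ≤ W → IsAffineHom (r ∣_ D)) :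
    ∃ (ι : Type u) (n : ι → ℕ) (s : ι → 𝒮.presheaf.obj (op (⊤ : Y.Opens))),
      (∀ a, 0 < n a ∧ s a ∈ 𝒮.deg ⊤ hY (n a)) ∧ (⨆ a, Xs u (n a) (s a)) = ⊤ ∧
      (∀ a, IsAffineOpen (Xs u (n a) (s a))) ∧
      (∀ a, emb p chart ⊤ hY ''ᵁ Proj.basicOpen (𝒮.deg ⊤ hY) (s a) ≤ W) ∧
      W ≤ ⨆ a, emb p chart ⊤ hY ''ᵁ Proj.basicOpen (𝒮.deg ⊤ hY) (s a) := by
  have key : ∀ z : W, ∃ (d : ℕ) (_ : 0 < d) (f : 𝒮.presheaf.obj (op (⊤ : Y.Opens))), f ∈ 𝒮.deg ⊤ hY d ∧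
      z.1 ∈ emb p chart ⊤ hY ''ᵁ Proj.basicOpen (𝒮.deg ⊤ hY) f ∧
      emb p chart ⊤ hY ''ᵁ Proj.basicOpen (𝒮.deg ⊤ hY) f ≤ W := by
    intro z
    obtain ⟨y, hy⟩ := exists_emb_eq 𝒮 (p := p) (chart := chart) hY (x := z.1) trivial
    obtain ⟨d, hd, f, hf, hfy, hle⟩ := exists_basicOpen_subset p hY (O := W) y (hy ▸ z.2)
    exact ⟨d, hd, f, hf, ⟨y, hfy, hy⟩, hle⟩
  choose n hn s hs hmem hle using key
  refine ⟨W, n, s, fun a => ⟨hn a, hs a⟩, top_le_iff.1 fun x _ => ?_, fun a => ?_, hle,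
    fun z hz => Opens.mem_iSup.2 ⟨⟨z, hz⟩, hmem ⟨z, hz⟩⟩⟩
  · have : IsIso pL := SymLib.isIso_proj hj hL hPL
    obtain ⟨x, rfl⟩ : ∃ z, pL z = x := ⟨inv pL x, by rw [← Scheme.Hom.comp_apply, IsIso.inv_hom_id]; rfl⟩
    have hx : x ∈ domQ u pL chartL := hdom.ge (Opens.mem_top x)
    exact Opens.mem_iSup.2 ⟨⟨r ⟨x, hx⟩, hrW ⟨_, rfl⟩⟩,
      (mem_preimage_iff_mem_Xs u r hr hj hL hP hPL hY (hn _) (hs _) x).1 ⟨hx, hmem ⟨r ⟨x, hx⟩, hrW ⟨_, rfl⟩⟩⟩⟩
  · have hD : IsAffine ((emb p chart ⊤ hY ''ᵁ Proj.basicOpen (𝒮.deg ⊤ hY) (s a) : P.Opens) : Scheme.{u}) :=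
      (Proj.isAffineOpen_basicOpen _ (s a) (hs a) (hn a)).image_of_isOpenImmersion _
    have := haff _ (hle a)
    exact isAffineOpen_Xs u r hr hj hL hP hPL hY (hn a) (hs a)
      (isAffine_of_isAffineHom (r ∣_ (emb p chart ⊤ hY ''ᵁ Proj.basicOpen (𝒮.deg ⊤ hY) (s a))))

end Groth.Agent.RelProjLib
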