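import Groth.Agent.RelProjLib.Comp
import Groth.Agent.RelProjLib.Preimage
import Groth.Agent.RelProjLib.AwayBaseChange
import Groth.Agent.RelProjLib.ImmCrit

/-! Immersion `r_{L,ψ}` descends to a finite stage of a filtered colimit. -/

noncomputable section

universe u

open CategoryTheory CategoryTheory.Limits AlgebraicGeometry TopologicalSpace Opposite
open scoped HomogeneousIdeal
open RelProj

namespace Groth.Agent.RelProjLib

/-- A cartesian square of open immersions computes the restriction. -/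
lemma restrict_of_square (P' : MorphismProperty Scheme.{u}) [P'.RespectsIso] {Z A W Q : Scheme.{u}} (s : Z ⟶ A)
    (z : Z ⟶ W) (e : A ⟶ Q) (r : W ⟶ Q) [IsOpenImmersion z] [IsOpenImmersion e] (h : z ≫ r = s ≫ e)
    (hr : r ⁻¹ᵁ e.opensRange = z.opensRange) (hs : P' s) : P' (r ∣_ e.opensRange) := by
  refine (P'.arrow_mk_iso_iff (morphismRestrictOpensRange r e)).2 ?_
  exact (P'.arrow_mk_iso_iff
    (Arrow.isoMk (IsOpenImmersion.isPullback s z e r h hr).flip.isoPullback (Iso.refl _) (by simp))).1 hs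

variable {X Y P PL : Scheme.{u}} {q : X ⟶ Y} {𝒮 : QCGrAlg Y} {𝒮L : QCGrAlg X} (u : QGrHom q 𝒮 𝒮L)
  {p : P ⟶ Y} {chart : ∀ (U : Y.Opens) (hU : IsAffineOpen U), (((p ⁻¹ᵁ U : P.Opens) : Scheme.{u}) ≅ Proj (𝒮.deg U hU))}
  {pL : PL ⟶ X}
  {chartL : ∀ (U : X.Opens) (hU : IsAffineOpen U), (((pL ⁻¹ᵁ U : PL.Opens) : Scheme.{u}) ≅ Proj (𝒮L.deg U hU))}

lemma preimage_standard_iff (hP : IsRelProj 𝒮 p chart) (hPL : IsRelProj 𝒮L pL chartL)
    {r : ((domQ u pL chartL : PL.Opens) : Scheme.{u}) ⟶ P}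
    (hr : IsProjQMapOn u p chart pL chartL (domQ u pL chartL) r)
    {U : Y.Opens} (hU : IsAffineOpen U) {d : ℕ} (hd : 0 < d) {f : 𝒮.presheaf.obj (op U)} (hf : f ∈ 𝒮.deg U hU d)
    (x : PL) :
    (∃ hx : x ∈ domQ u pL chartL, r ⟨x, hx⟩ ∈ emb p chart U hU ''ᵁ Proj.basicOpen (𝒮.deg U hU) f) ↔
      ∃ (V : X.Opens) (hV : IsAffineOpen V) (hle : V ≤ q ⁻¹ᵁ U) (w : Proj (𝒮L.deg V hV)),
        emb pL chartL V hV w = x ∧ u.gradedAt U hU V hV hle f ∉ w.asHomogeneousIdeal := by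
  constructor
  · rintro ⟨hx, hxm⟩
    have hxU : q (pL x) ∈ U := by
      obtain ⟨w, -, hw⟩ := hxm
      have h := emb_mem_base 𝒮 (p := p) (chart := chart) U hU w
      have h' : p (r ⟨x, hx⟩) ∈ U := (congrArg p hw) ▸ h
      have e := congr($(comp_of_isProjQMapOn u p pL hP hPL hr) ⟨x, hx⟩)
      exact e ▸ h'
    obtain ⟨_, ⟨V, hV, rfl⟩, hxV, hVU⟩ :=
      X.isBasis_affineOpens.exists_subset_of_mem_open (show pL x ∈ q ⁻¹ᵁ U from hxU) (q ⁻¹ᵁ U).2
    obtain ⟨w, rfl⟩ := exists_emb_eq 𝒮L (p := pL) (chart := chartL) hV hxV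
    exact ⟨V, hV, hVU, w, rfl,
      (mem_preimage_basicOpen_iff u p pL hP hPL hr hU hV hVU hd hf w).1 ⟨_, hxm, rfl⟩⟩
  · rintro ⟨V, hV, hle, w, rfl, hw⟩
    obtain ⟨⟨x', hx'⟩, hxm, hxe⟩ := (mem_preimage_basicOpen_iff u p pL hP hPL hr hU hV hle hd hf w).2 hw
    obtain rfl : x' = _ := hxe
    exact ⟨hx', hxm⟩

variable {Λ : Type u} [Preorder Λ] [IsDirected Λ (· ≤ ·)] {𝒮i : Λ → QCGrAlg Y}
  {φ : ∀ i, (𝒮i i).toQCAlg ⟶ 𝒮.toQCAlg}
  {t : ∀ i j, i ≤ j → ((𝒮i i).toQCAlg ⟶ (𝒮i j).toQCAlg)}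
  {ui : ∀ i, QGrHom q (𝒮i i) 𝒮L}
  {Pi : Λ → Scheme.{u}} {pi : ∀ i, Pi i ⟶ Y}
  {charti : ∀ i (U : Y.Opens) (hU : IsAffineOpen U),
    ((((pi i) ⁻¹ᵁ U : (Pi i).Opens) : Scheme.{u}) ≅ Proj ((𝒮i i).deg U hU))}

/-- A homogeneous element lifts to all large stages. -/
lemma exists_lift_deg (hφ : ∀ i, IsGradedHom (φ i)) (ht : ∀ i j (h : i ≤ j), IsGradedHom (t i j h))
    (hφt : ∀ i j (h : i ≤ j), t i j h ≫ φ j = φ i)
    (hsurj : ∀ (U : Y.Opens), IsAffineOpen U → ∀ x : 𝒮.presheaf.obj (op U),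
      ∃ (i : Λ) (y : (𝒮i i).presheaf.obj (op U)), ((φ i).hom.app (op U)).hom y = x)
    {U : Y.Opens} (hU : IsAffineOpen U) {d : ℕ} {f : 𝒮.presheaf.obj (op U)} (hf : f ∈ 𝒮.deg U hU d) :
    ∃ i, ∀ k, i ≤ k → ∃ g ∈ (𝒮i k).deg U hU d, ((φ k).hom.app (op U)).hom g = f := by
  classical
  obtain ⟨i, y, hy⟩ := hsurj U hU f
  refine ⟨i, fun k hik => ⟨((t i k hik).hom.app (op U)).hom (DirectSum.decompose ((𝒮i i).deg U hU) y d),
    ht i k hik U hU d _ (SetLike.coe_mem _), ?_⟩⟩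
  have e : (φ i).hom.app (op U) = (t i k hik).hom.app (op U) ≫ (φ k).hom.app (op U) := by
    rw [← hφt i k hik]; rfl
  have h1 : homAt (hφ i) U hU (DirectSum.decompose ((𝒮i i).deg U hU) y d) = f := by
    have hgg : homAt (hφ i) U hU y = f := (gradedAt_ofHom_apply _ _ _ _ _ _).trans hy
    rw [GradedRingHom.map_directSumDecompose, hgg, DirectSum.decompose_of_mem_same _ hf]
  rw [← CommRingCat.comp_apply, ← e]
  exact (gradedAt_ofHom_apply _ (hφ i) U hU (le_refl U) _).symm.trans h1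

lemma exists_stage [Nonempty Λ] (hP : IsRelProj 𝒮 p chart) (hPL : IsRelProj 𝒮L pL chartL) [LocallyOfFiniteType q]
    [LocallyOfFiniteType pL]
    {r : ((domQ u pL chartL : PL.Opens) : Scheme.{u}) ⟶ P}
    (hr : IsProjQMapOn u p chart pL chartL (domQ u pL chartL) r)
    (hφ : ∀ i, IsGradedHom (φ i)) (ht : ∀ i j (h : i ≤ j), IsGradedHom (t i j h))
    (hφt : ∀ i j (h : i ≤ j), t i j h ≫ φ j = φ i)
    (hsurj : ∀ (U : Y.Opens), IsAffineOpen U → ∀ x : 𝒮.presheaf.obj (op U),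
      ∃ (i : Λ) (y : (𝒮i i).presheaf.obj (op U)), ((φ i).hom.app (op U)).hom y = x)
    (hui : ∀ i (U : Y.Opens), (ui i).app U = (φ i).hom.app (op U) ≫ u.app U)
    (hPi : ∀ i, IsRelProj (𝒮i i) (pi i) (charti i))
    {ri : ∀ i, ((domQ (ui i) pL chartL : PL.Opens) : Scheme.{u}) ⟶ Pi i}
    (hri : ∀ i, IsProjQMapOn (ui i) (pi i) (charti i) pL chartL (domQ (ui i) pL chartL) (ri i))
    {U : Y.Opens} (hU : IsAffineOpen U) {d : ℕ} (hd : 0 < d) {f : 𝒮.presheaf.obj (op U)} (hf : f ∈ 𝒮.deg U hU d)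
    (hcl : IsClosedImmersion (r ∣_ (emb p chart U hU ''ᵁ Proj.basicOpen (𝒮.deg U hU) f))) :
    ∃ i₀, ∀ k, i₀ ≤ k → ∃ g ∈ (𝒮i k).deg U hU d,
      IsClosedImmersion (ri k ∣_ (emb (pi k) (charti k) U hU ''ᵁ Proj.basicOpen ((𝒮i k).deg U hU) g)) ∧
      ∀ x : PL, (∃ hx : x ∈ domQ u pL chartL, r ⟨x, hx⟩ ∈ emb p chart U hU ''ᵁ Proj.basicOpen (𝒮.deg U hU) f) →
        ∃ hx : x ∈ domQ (ui k) pL chartL,
          ri k ⟨x, hx⟩ ∈ emb (pi k) (charti k) U hU ''ᵁ Proj.basicOpen ((𝒮i k).deg U hU) g := by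
  classical
  let e := Proj.awayι (𝒮.deg U hU) f hf hd ≫ emb p chart U hU
  have he : e.opensRange = emb p chart U hU ''ᵁ Proj.basicOpen (𝒮.deg U hU) f := by
    rw [Scheme.Hom.opensRange_comp, Proj.opensRange_awayι]
  have hsnd : IsClosedImmersion (pullback.snd r e) := by
    rw [← he] at hcl
    exact (MorphismProperty.arrow_mk_iso_iff @IsClosedImmersion (morphismRestrictOpensRange r e)).1 hcl
  obtain ⟨I, ζ, hζ⟩ := IsClosedImmersion.Spec_iff.1 hsnd
  let ψ : CommRingCat.of (HomogeneousLocalization.Away (𝒮.deg U hU) f) ⟶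
    CommRingCat.of (HomogeneousLocalization.Away (𝒮.deg U hU) f ⧸ I) := CommRingCat.ofHom (Ideal.Quotient.mk I)
  let z0 : pullback r e ⟶ (domQ u pL chartL : Scheme.{u}) := pullback.fst r e
  have hz0 : z0 ≫ r = pullback.snd r e ≫ e := pullback.condition
  have hbase : e ≫ p =
      Spec.map (CommRingCat.ofHom (zeroToAway (𝒜 := 𝒮.deg U hU) (𝒮.str.app (op U)).hom (𝒮.str_mem U hU) f)) ≫
        hU.fromSpec := by
    simp only [e, Category.assoc, emb_comp hP, Proj.awayι_toSpecZero_assoc, ← Spec.map_comp_assoc]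
    rfl
  have hft : ((ψ.hom).comp (zeroToAway (𝒜 := 𝒮.deg U hU) (𝒮.str.app (op U)).hom (𝒮.str_mem U hU) f)).FiniteType := by
    have h1 : LocallyOfFiniteType ((ζ.inv ≫ z0) ≫ r ≫ p) := by
      rw [comp_of_isProjQMapOn u p pL hP hPL hr]
      infer_instance
    have h2 : (ζ.inv ≫ z0) ≫ r ≫ p = Spec.map (CommRingCat.ofHom ((ψ.hom).comp
        (zeroToAway (𝒜 := 𝒮.deg U hU) (𝒮.str.app (op U)).hom (𝒮.str_mem U hU) f))) ≫ hU.fromSpec := by
      rw [Category.assoc, reassoc_of% hz0, hbase, hζ]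
      simp only [Category.assoc, Iso.inv_hom_id_assoc, ← Spec.map_comp_assoc]
      rfl
    rw [h2] at h1
    exact (HasRingHomProperty.Spec_iff (P := @LocallyOfFiniteType)).1
      (locallyOfFiniteType_of_comp (Spec.map (CommRingCat.ofHom ((ψ.hom).comp
        (zeroToAway (𝒜 := 𝒮.deg U hU) (𝒮.str.app (op U)).hom (𝒮.str_mem U hU) f)))) hU.fromSpec)
  algebraize [(ψ.hom).comp (zeroToAway (𝒜 := 𝒮.deg U hU) (𝒮.str.app (op U)).hom (𝒮.str_mem U hU) f)]
  obtain ⟨T, hT⟩ := Algebra.FiniteType.out (R := Γ(Y, U)) (A := HomogeneousLocalization.Away (𝒮.deg U hU) f ⧸ I)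
  have hT' : ∀ b : T, ∃ (n : ℕ) (a : 𝒮.presheaf.obj (op U)) (ha : a ∈ 𝒮.deg U hU (n • d)),
      ψ.hom (HomogeneousLocalization.Away.mk (𝒮.deg U hU) hf n a ha) = b.1 := fun b => by
    obtain ⟨z, hz⟩ := Ideal.Quotient.mk_surjective b.1
    obtain ⟨n, a, ha, rfl⟩ := HomogeneousLocalization.Away.mk_surjective (𝒮.deg U hU) hf z
    exact ⟨n, a, ha, hz⟩
  choose N a ha hab using hT'
  choose J hJ using fun b : T => exists_lift_deg hφ ht hφt hsurj hU (ha b)
  obtain ⟨i₀, hi₀⟩ := exists_lift_deg hφ ht hφt hsurj hU hf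
  obtain ⟨i₁, hi₁⟩ := (insert i₀ (Finset.univ.image J)).exists_le
  refine ⟨i₁, fun k hk => ?_⟩
  obtain ⟨g, hg, hgf⟩ := hi₀ k ((hi₁ i₀ (Finset.mem_insert_self _ _)).trans hk)
  have hgf' : homAt (hφ k) U hU g = f := (gradedAt_ofHom_apply _ (hφ k) U hU (le_refl U) g).trans hgf
  obtain ⟨rv, hrv, -⟩ := existsUnique_isProjQMapOn (QGrHom.ofHom (φ k) (hφ k)) (pi k) p (hPi k) hP
  obtain ⟨l, hl, hl'⟩ := exists_comp (hui k) hr (hri k) hrv
  have hiff : ∀ x : PL, (∃ hx : x ∈ domQ u pL chartL,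
        r ⟨x, hx⟩ ∈ emb p chart U hU ''ᵁ Proj.basicOpen (𝒮.deg U hU) f) ↔
      ∃ hx : x ∈ domQ (ui k) pL chartL,
        ri k ⟨x, hx⟩ ∈ emb (pi k) (charti k) U hU ''ᵁ Proj.basicOpen ((𝒮i k).deg U hU) g := by
    intro x
    rw [preimage_standard_iff u hP hPL hr hU hd hf x, preimage_standard_iff (ui k) (hPi k) hPL (hri k) hU hd hg x]
    refine exists_congr fun V => exists_congr fun hV => exists_congr fun hle => exists_congr fun w => ?_
    rw [gradedAt_comp (hui k) (hv := hφ k), GradedRingHom.comp_apply, gradedAt_ofHom_apply, hgf]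
  refine ⟨g, hg, ?_, fun x => (hiff x).1⟩
  let ek := Proj.awayι ((𝒮i k).deg U hU) g hg hd ≫ emb (pi k) (charti k) U hU
  have hek : ek.opensRange = emb (pi k) (charti k) U hU ''ᵁ Proj.basicOpen ((𝒮i k).deg U hU) g := by
    rw [Scheme.Hom.opensRange_comp, Proj.opensRange_awayι]
  let c : CommRingCat.of (HomogeneousLocalization.Away ((𝒮i k).deg U hU) g) ⟶
      CommRingCat.of (HomogeneousLocalization.Away (𝒮.deg U hU) (homAt (hφ k) U hU g)) :=
    CommRingCat.ofHom (HomogeneousLocalization.Away.map (homAt (hφ k) U hU) g)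
  let ed := awayEmb (QGrHom.ofHom (φ k) (hφ k)) p chart U hU U hU (le_refl U) hd g hg
  have hed := range_awayEmb_subset_domQ (QGrHom.ofHom (φ k) (hφ k)) p chart U hU U hU (le_refl U) hd g hg
  have hrvc : IsOpenImmersion.lift (domQ (QGrHom.ofHom (φ k) (hφ k)) p chart).ι ed hed ≫ rv = Spec.map c ≫ ek :=
    hrv U hU U hU (le_refl U) d hd g hg hed
  -- transport along `φ g = f`
  subst hgf'
  have hOI : IsOpenImmersion ed := by unfold ed awayEmb; infer_instance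
  have hed' : ed = e := rfl
  have hz : ∀ y : (pullback r e : Scheme.{u}), (z0 y).1 ∈ domQ (ui k) pL chartL := fun y => by
    refine ((hiff _).1 ⟨(z0 y).2, ?_⟩).1
    rw [← he]
    exact ⟨pullback.snd r e y, congr($(hz0) y).symm⟩
  let zk : pullback r e ⟶ (domQ (ui k) pL chartL : Scheme.{u}) :=
    IsOpenImmersion.lift (domQ (ui k) pL chartL).ι (z0 ≫ (domQ u pL chartL).ι) (by
      rintro _ ⟨y, rfl⟩
      rw [Scheme.Opens.range_ι]
      exact hz y)
  have hzk : zk ≫ (domQ (ui k) pL chartL).ι = z0 ≫ (domQ u pL chartL).ι := IsOpenImmersion.lift_fac _ _ _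
  have sq : zk ≫ ri k = (pullback.snd r e ≫ Spec.map c) ≫ ek := by
    rw [Category.assoc, ← hrvc, ← Category.assoc, ← hl', ← Category.assoc]
    congr 1
    rw [← cancel_mono (domQ (QGrHom.ofHom (φ k) (hφ k)) p chart).ι]
    simp only [Category.assoc, hl, IsOpenImmersion.lift_fac]
    rw [hed', ← hz0, ← Category.assoc]
    congr 1
    rw [← cancel_mono (domQ u pL chartL).ι, Category.assoc, Scheme.homOfLE_ι, hzk]
  have hzkOI : IsOpenImmersion zk := by
    have : IsOpenImmersion (zk ≫ (domQ (ui k) pL chartL).ι) := by rw [hzk]; infer_instance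
    exact IsOpenImmersion.of_comp zk (domQ (ui k) pL chartL).ι
  have hrange : ri k ⁻¹ᵁ ek.opensRange = zk.opensRange := by
    ext ⟨x, hx⟩
    constructor
    · intro hm
      obtain ⟨hx', hm'⟩ := (hiff x).2 ⟨hx, hek.le hm⟩
      have : (⟨x, hx'⟩ : (domQ u pL chartL : Scheme.{u})) ∈ z0.opensRange := by
        rw [show z0.opensRange = r ⁻¹ᵁ e.opensRange from Scheme.Hom.opensRange_pullbackFst _ _]
        exact he.ge hm'
      obtain ⟨y, hy⟩ := this
      refine ⟨y, (domQ (ui k) pL chartL).ι.isOpenEmbedding.injective ?_⟩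
      rw [← Scheme.Hom.comp_apply, hzk, Scheme.Hom.comp_apply, hy]
      rfl
    · rintro ⟨y, hy⟩
      rw [← hy]
      exact ⟨_, congr($(sq) y).symm⟩
  have hcomp : IsClosedImmersion (pullback.snd r e ≫ Spec.map c) := by
    rw [hζ, Category.assoc, ← Spec.map_comp]
    have : IsClosedImmersion (Spec.map (c ≫ ψ)) := by
      refine IsClosedImmersion.spec_of_surjective _ fun b => ?_
      have hb : b ∈ Algebra.adjoin Γ(Y, U) (T : Set (HomogeneousLocalization.Away (𝒮.deg U hU) (homAt (hφ k) U hU g) ⧸ I)) :=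
        hT ▸ Algebra.mem_top
      suffices h : (Algebra.adjoin Γ(Y, U) (T : Set (HomogeneousLocalization.Away (𝒮.deg U hU) (homAt (hφ k) U hU g) ⧸ I))).toSubring ≤
          (ψ.hom.comp c.hom).range from h hb
      rw [Algebra.adjoin_eq_ring_closure, Subring.closure_le]
      rintro b (⟨s, rfl⟩ | hb)
      · refine ⟨zeroToAway (𝒜 := (𝒮i k).deg U hU) ((𝒮i k).str.app (op U)).hom ((𝒮i k).str_mem U hU) g s, ?_⟩
        refine congrArg ψ.hom ?_
        apply HomogeneousLocalization.val_injective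
        dsimp [c, HomogeneousLocalization.Away.map, zeroToAway, HomogeneousLocalization.fromZeroRingHom]
        erw [HomogeneousLocalization.map_mk, HomogeneousLocalization.val_mk, HomogeneousLocalization.val_mk]
        · refine congrArg₂ Localization.mk ?_ (Subtype.ext (map_one (homAt (hφ k) U hU)))
          refine (gradedAt_ofHom_apply _ (hφ k) U hU (le_refl U) _).trans ?_
          exact congr($(NatTrans.congr_app (φ k).comm (op U)).hom s)
      · obtain ⟨a', ha', haa⟩ := hJ ⟨b, hb⟩ k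
          ((hi₁ _ (Finset.mem_insert_of_mem (Finset.mem_image_of_mem _ (Finset.mem_univ _)))).trans hk)
        refine ⟨HomogeneousLocalization.Away.mk _ hg (N ⟨b, hb⟩) a' ha', ?_⟩
        refine Eq.trans ?_ (hab ⟨b, hb⟩)
        refine congrArg ψ.hom ?_
        apply HomogeneousLocalization.val_injective
        dsimp [c]
        erw [HomogeneousLocalization.Away.map_mk, HomogeneousLocalization.Away.val_mk]
        exact congrArg (Localization.mk · _) ((gradedAt_ofHom_apply _ (hφ k) U hU (le_refl U) a').trans haa)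
    infer_instance
  exact hek ▸ restrict_of_square @IsClosedImmersion (pullback.snd r e ≫ Spec.map c) zk ek (ri k) sq hrange hcomp

end Groth.Agent.RelProjLib
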