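import Groth.Agent.RelProjLib.AmpleImm
import Mathlib.AlgebraicGeometry.Morphisms.SchemeTheoreticallyDominant

/-!
# `r_{L,σ}` is scheme-theoretically dominant when `u` is bijective on global sections
-/

noncomputable section

universe u

open CategoryTheory CategoryTheory.Limits AlgebraicGeometry TopologicalSpace Opposite
open RelProj
open Groth.Agent.Props.GenLocus

namespace Groth.Agent.RelProjLib.AmpleImm

variable {X Y : Scheme.{u}} {q : X ⟶ Y} {𝒮 : QCGrAlg Y} {𝒮L : QCGrAlg X} (u : QGrHom q 𝒮 𝒮L)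
  {L : X.Modules} [L.IsQuasicoherent] {j : L ⟶ 𝒮L.toModule} (hj : IsGrSymAlg L 𝒮L j)
  (hY : IsAffineOpen (⊤ : Y.Opens)) (hu : Function.Bijective (u.app ⊤).hom)
  {P PL : Scheme.{u}} {p : P ⟶ Y}
  {chart : ∀ (U : Y.Opens) (hU : IsAffineOpen U), (((p ⁻¹ᵁ U : P.Opens) : Scheme.{u}) ≅ Proj (𝒮.deg U hU))}
  {pL : PL ⟶ X}
  {chartL : ∀ (U : X.Opens) (hU : IsAffineOpen U), (((pL ⁻¹ᵁ U : PL.Opens) : Scheme.{u}) ≅ Proj (𝒮L.deg U hU))}
  {r : ((domQ u pL chartL : PL.Opens) : Scheme.{u}) ⟶ P}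
  (hr : IsProjQMapOn u p chart pL chartL (domQ u pL chartL) r)

omit [L.IsQuasicoherent] in
include hr in
/-- A function on `D₊(f)` killed by `r` dies in every chart over it. -/
lemma chart_eq_zero {d : ℕ} (hd : 0 < d) {f : 𝒮.presheaf.obj (op (⊤ : Y.Opens))} (hf : f ∈ 𝒮.deg ⊤ hY d)
    {V : X.Opens} (hV : IsAffineOpen V)
    (z : Γ(P, (Proj.awayι (𝒮.deg ⊤ hY) f hf hd ≫ emb p chart ⊤ hY).opensRange))
    (hz : r.app _ z = 0) :
    HomogeneousLocalization.Away.map (u.gradedAt ⊤ hY V hV (le_top.trans (Scheme.Hom.preimage_top q).ge)) f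
      ((Scheme.ΓSpecIso _).hom ((Proj.awayι (𝒮.deg ⊤ hY) f hf hd ≫ emb p chart ⊤ hY).appLE
        (Proj.awayι (𝒮.deg ⊤ hY) f hf hd ≫ emb p chart ⊤ hY).opensRange ⊤
        (fun w _ => ⟨w, rfl⟩) z)) = 0 := by
  let i : ChartIdx (g := q) (𝒮 := 𝒮) :=
    ⟨⊤, hY, V, hV, le_top.trans (Scheme.Hom.preimage_top q).ge, d, hd, f, hf⟩
  have hW := range_awayEmb_subset_domQ u pL chartL i.U i.hU i.U' i.hU' i.hle i.hd i.f i.hf
  let l := IsOpenImmersion.lift (domQ u pL chartL).ι (i.e u pL chartL) hW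
  have sq : l ≫ r = Spec.map (CommRingCat.ofHom (HomogeneousLocalization.Away.map
      (u.gradedAt ⊤ hY V hV (le_top.trans (Scheme.Hom.preimage_top q).ge)) f)) ≫
        Proj.awayι (𝒮.deg ⊤ hY) f hf hd ≫ emb p chart ⊤ hY := hr _ _ _ _ _ _ _ _ _ hW
  set k := Proj.awayι (𝒮.deg ⊤ hY) f hf hd ≫ emb p chart ⊤ hY
  set φ := CommRingCat.ofHom (HomogeneousLocalization.Away.map
      (u.gradedAt ⊤ hY V hV (le_top.trans (Scheme.Hom.preimage_top q).ge)) f)
  have h1 : (Spec.map φ ≫ k).appLE k.opensRange ⊤ (fun w _ => ⟨Spec.map φ w, rfl⟩) z = 0 := by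
    have hh : (⊤ : (i.X u).Opens) ≤ (l ≫ r) ⁻¹ᵁ k.opensRange := by
      rw [sq]; exact fun w _ => ⟨Spec.map φ w, rfl⟩
    have e1 : (l ≫ r).appLE k.opensRange ⊤ hh z = 0 := by
      rw [Scheme.Hom.comp_appLE, ConcreteCategory.comp_apply]
      exact (congrArg _ hz).trans (map_zero _)
    refine Eq.trans ?_ e1
    have aux : ∀ (g g' : i.X u ⟶ P), g = g' → ∀ hg hg',
        g.appLE k.opensRange ⊤ hg z = g'.appLE k.opensRange ⊤ hg' z := by
      rintro g _ rfl hg hg'; rfl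
    exact aux _ _ sq.symm _ _
  rw [Scheme.Hom.appLE_comp_appLE (f := Spec.map φ) (g := k) k.opensRange ⊤ ⊤ (fun w _ => ⟨w, rfl⟩) le_top |>.symm] at h1
  have h2 := congr($(Scheme.ΓSpecIso_naturality φ) (k.appLE k.opensRange ⊤ (fun w _ => ⟨w, rfl⟩) z))
  rw [Scheme.Hom.appTop, Scheme.Hom.app_eq_appLE] at h2
  change (Scheme.ΓSpecIso _).hom ((Spec.map φ).appLE ⊤ ⊤ le_top (k.appLE k.opensRange ⊤ (fun w _ => ⟨w, rfl⟩) z)) =
    φ.hom ((Scheme.ΓSpecIso _).hom (k.appLE k.opensRange ⊤ (fun w _ => ⟨w, rfl⟩) z)) at h2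
  exact h2.symm.trans ((congrArg _ h1).trans (map_zero _))

include hj hu hr hY in
/-- `r` is scheme-theoretically dominant. -/
theorem isSchemeTheoreticallyDominant (hL : PicF.IsInvertible L) [CompactSpace X] (hP : IsRelProj 𝒮 p chart)
    [QuasiCompact r] : IsSchemeTheoreticallyDominant r := by
  refine ⟨Scheme.IdealSheafData.ext_of_iSup_eq_top
    (fun i : Σ d : {d : ℕ // 0 < d}, 𝒮.deg ⊤ hY d.1 =>
      ⟨(Proj.awayι (𝒮.deg ⊤ hY) i.2.1 i.2.2 i.1.2 ≫ emb p chart ⊤ hY).opensRange,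
        isAffineOpen_opensRange _⟩) (top_le_iff.1 fun z _ => ?_) fun i => ?_⟩
  · obtain ⟨y, rfl⟩ := exists_emb_eq 𝒮 (p := p) (chart := chart) hY (x := z) trivial
    by_contra h
    refine (show ProjectiveSpectrum (𝒮.deg ⊤ hY) from y).not_irrelevant_le
      ((HomogeneousIdeal.irrelevant_le _).2 fun d hd a ha => ?_)
    by_contra hay
    obtain ⟨w, hw⟩ := (Proj.opensRange_awayι (𝒮.deg ⊤ hY) a ha hd).ge hay
    exact h (Opens.mem_iSup.2 ⟨⟨⟨d, hd⟩, ⟨a, ha⟩⟩, w, by rw [Scheme.Hom.comp_apply, hw]⟩)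
  obtain ⟨⟨d, hd⟩, f, hf⟩ := i
  rw [Scheme.Hom.ker_apply, Scheme.IdealSheafData.ideal_bot, Pi.bot_apply, eq_bot_iff]
  intro z (hz : r.app _ z = 0)
  rw [Submodule.mem_bot]
  change Γ(P, (Proj.awayι (𝒮.deg ⊤ hY) f hf hd ≫ emb p chart ⊤ hY).opensRange) at z
  set k := Proj.awayι (𝒮.deg ⊤ hY) f hf hd ≫ emb p chart ⊤ hY with hk
  have hkinj : Function.Injective ((Scheme.ΓSpecIso _).hom ∘
      k.appLE k.opensRange ⊤ (fun w _ => ⟨w, rfl⟩)) := by
    have h1 : IsIso (k.app k.opensRange) := k.isIso_app _ le_rfl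
    have e : (⊤ : (Spec _).Opens) = k ⁻¹ᵁ k.opensRange := (Scheme.Hom.preimage_opensRange k).symm
    have h2 : IsIso (k.appLE k.opensRange ⊤ (fun w _ => ⟨w, rfl⟩)) := by
      rw [Scheme.Hom.appLE]
      have : IsIso ((Spec _).presheaf.map (homOfLE e.le).op) := by
        rw [Subsingleton.elim (homOfLE e.le) (eqToHom e)]; infer_instance
      infer_instance
    exact (ConcreteCategory.bijective_of_isIso _).1.comp (ConcreteCategory.bijective_of_isIso _).1
  refine hkinj (Eq.trans ?_ (by rw [Function.comp_apply, map_zero, map_zero]))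
  set w := (Scheme.ΓSpecIso _).hom (k.appLE k.opensRange ⊤ (fun w _ => ⟨w, rfl⟩) z) with hw
  change w = 0
  obtain ⟨m, a, ha, hwa⟩ := HomogeneousLocalization.Away.mk_surjective (𝒮.deg ⊤ hY) hf w
  rw [← hwa]
  obtain ⟨n, -, hn⟩ : ∃ n, 0 < n ∧ f ^ n * a = 0 := by
    refine cond_inj u hj hY hu hL hf ha ?_
    have key : ∀ x : X, ∃ (V : X.Opens) (_ : x ∈ V),
        rh 𝒮L (inf_le_left : Xs u d f ⊓ V ≤ Xs u d f) (uTop u (Xs u d f) a) = 0 := by
      intro x
      obtain ⟨U₀, e, hxU, he⟩ := exists_isGen hL x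
      obtain ⟨V, hV, hxV, hVU⟩ := exists_isAffineOpen_mem_and_subset (U := U₀) (x := x) hxU
      refine ⟨V, hxV, ?_⟩
      have h := chart_eq_zero u hY hr hd hf hV z hz
      rw [← hw, ← hwa, HomogeneousLocalization.Away.map_mk] at h
      have h1 := congrArg HomogeneousLocalization.val h
      rw [HomogeneousLocalization.Away.val_mk, HomogeneousLocalization.val_zero, ← Localization.mk_zero 1,
        Localization.mk_eq_mk_iff, Localization.r_iff_exists] at h1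
      obtain ⟨⟨_, l, rfl⟩, hl⟩ := h1
      simp only [OneMemClass.coe_one, one_mul, mul_zero] at hl
      change uTop u V f ^ l * uTop u V a = 0 at hl
      obtain ⟨c, hc, -⟩ := existsUnique_gen hj he hV hVU (uTop_mem u hY hf hV)
      have hX := Xs_inf u hj he hV hVU f hc
      have hunit : IsUnit (rh 𝒮L (inf_le_right : Xs u d f ⊓ V ≤ V)
          ((𝒮L.str.app (op V)).hom c)) := by
        rw [rh_str]
        refine IsUnit.map _ ?_
        have := RingedSpace.isUnit_res_basicOpen X.toRingedSpace c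
        have h3 := this.map (QCoh.rres hX.le).hom
        exact (congrArg IsUnit (QCoh.rres_rres (X.basicOpen_le c) hX.le c)).mp h3
      have h4 := congrArg (rh 𝒮L (inf_le_right : Xs u d f ⊓ V ≤ V)) hl
      rw [map_mul, map_pow, map_zero, hc, map_mul, map_pow] at h4
      have e1 : rh 𝒮L (inf_le_left : Xs u d f ⊓ V ≤ Xs u d f) (uTop u (Xs u d f) a) =
          rh 𝒮L (inf_le_right : Xs u d f ⊓ V ≤ V) (uTop u V a) :=
        (uTop_res u _ a).trans (uTop_res u _ a).symm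
      rw [e1, mul_pow, mul_assoc, (hunit.pow l).mul_right_eq_zero, ← pow_mul, rh_gen] at *
      obtain ⟨c', hc', -⟩ := existsUnique_gen hj he hV hVU (uTop_mem u hY ha hV)
      have hD : IsAffineOpen (Xs u d f ⊓ V) := hX ▸ hV.basicOpen c
      obtain ⟨_, -, huniq⟩ := existsUnique_gen hj he hD (inf_le_right.trans hVU)
        (zero_mem (𝒮L.deg _ hD (d * l + m • d)))
      rw [hc', map_mul, map_pow, rh_str, rh_gen, mul_left_comm, ← pow_add] at h4
      rw [hc', map_mul, rh_str, (huniq _ h4.symm).trans (huniq 0 (by simp)).symm, map_zero, zero_mul]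
    choose V hxV hV using key
    refine eq_of_locally (U := fun x => Xs u d f ⊓ V x) (fun _ => inf_le_left)
      (fun x hx => Opens.mem_iSup.2 ⟨x, hx, hxV x⟩) fun x => ?_
    rw [hV x, map_zero]
  refine HomogeneousLocalization.val_injective _ ?_
  rw [HomogeneousLocalization.Away.val_mk, HomogeneousLocalization.val_zero, ← Localization.mk_zero 1,
    Localization.mk_eq_mk_iff, Localization.r_iff_exists]
  exact ⟨⟨f ^ n, n, rfl⟩, by simpa using hn⟩

end Groth.Agent.RelProjLib.AmpleImm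

end
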